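import Mathlib
import Cfsg.Agent.Lib.Block.SchurIndicator
import Cfsg.Agent.Lib.Char.Average

/-!
The alternating square of a character, and an inequality for the value at a square.
-/

set_option autoImplicit false

namespace Cfsg.Agent.Block.PMinusOne

open scoped ComplexConjugate
open Cfsg Cfsg.Agent.Char

universe u

variable {G : Type u} [Group G]

theorem isChar_alt [Finite G] {χ : G → ℂ} (hχ : IsCharacter G χ) :
    IsCharacter G (fun g => (χ g * χ g - χ (g * g)) / 2) := by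
  classical
  haveI := Fintype.ofFinite G
  obtain ⟨Φ, hΦ, hv⟩ := FS.exists_square_char hχ
  let N : Subgroup (G × ℤˣ) := (MonoidHom.fst G ℤˣ).ker
  let l : G × ℤˣ →* ℂˣ := (Units.map (Int.castRingHom ℂ).toMonoidHom).comp (MonoidHom.snd G ℤˣ)
  have hΨ := IsChar.avgN N (IsChar.mul hΦ (IsIrr.isCharacter (isIrr_linear l)))
  have h := IsChar.comp (MonoidHom.inl G ℤˣ) hΨ
  convert h using 2 with g
  have e : ∀ x : G × ℤˣ, x ∈ N ↔ x.1 = 1 := fun x => MonoidHom.mem_ker
  let φ : ℤˣ ≃ N := {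
    toFun := fun s => ⟨(1, s), (e _).2 rfl⟩
    invFun := fun n => n.1.2
    left_inv := fun _ => rfl
    right_inv := fun n => Subtype.ext (Prod.ext ((e _).1 n.2).symm rfl) }
  simp only [avgN]
  rw [← φ.sum_comp, FS.sum_units_int, Nat.card_congr φ.symm, Nat.card_eq_fintype_card (α := ℤˣ),
    show Fintype.card ℤˣ = 2 by decide]
  simp [φ, l, (hv g).1, (hv g).2, sub_eq_add_neg]
  ring

/-- `χ(g²) ≥ 4 χ(g) - 3 χ(1)` in real parts. -/
theorem re_sq_le [Finite G] {χ : G → ℂ} (hχ : IsCharacter G χ) (g : G) :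
    4 * (χ g).re - 3 * (χ 1).re ≤ (χ (g * g)).re := by
  obtain ⟨n, ρ, rfl⟩ := hχ
  obtain ⟨b, c, -, hc, hk⟩ := exists_rep_eigenbasis ρ g
  have h0 := hk 0
  have h1 := hk 1
  have h2 := hk 2
  simp only [pow_zero, pow_one, pow_two] at h0 h1 h2
  rw [h0, h1, h2, Complex.re_sum, Complex.re_sum, Complex.re_sum, Finset.mul_sum, Finset.mul_sum,
    ← Finset.sum_sub_distrib]
  refine Finset.sum_le_sum fun i _ => ?_
  have hn := norm_eq_one_of_pow_eq_one' (orderOf_pos g) (hc i)
  have hs : (c i).re * (c i).re + (c i).im * (c i).im = 1 := by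
    rw [← Complex.normSq_apply, Complex.normSq_eq_norm_sq, hn, one_pow]
  simp only [Complex.mul_re, Complex.one_re]
  nlinarith [sq_nonneg ((c i).re - 1)]

end Cfsg.Agent.Block.PMinusOne
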