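import Mathlib
import Cfsg.Agent.Lib.Block.FewSylow.Basic
import Cfsg.Agent.Lib.Block.PMinusOne.Square

/-!
A self-centralizing element of prime order `p = 2 t + 1` with normalizer of order `2 p` and an
irreducible character of degree `p - 1`: its alternating square.
-/

set_option autoImplicit false

namespace Cfsg.Agent.Block.PMinusOne

open scoped ComplexConjugate
open Cfsg Cfsg.Agent.Block Cfsg.Agent.Char

universe u

/-- What the block of `p` gives. -/
structure Setting (G : Type u) [Group G] [Fintype G] (p : ℕ) [Fact p.Prime] where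
  x : G
  hx : SCP.Hyp p x
  he : SCP.e x = 2
  t : ℕ
  ht : 2 * t + 1 = p
  ht3 : 3 ≤ t
  χ : IrrCharacter G
  Y : Finset (IrrCharacter G)
  hY : Y.card = t
  faith : ∀ g : G, (χ : G → ℂ) g = (χ : G → ℂ) 1 → g = 1
  deg : (χ : G → ℂ) 1 = 2 * (t : ℂ)
  real : ∀ g : G, conj ((χ : G → ℂ) g) = (χ : G → ℂ) g
  at_p : ∀ g : G, orderOf g = p → (χ : G → ℂ) g = -1
  vY : ∀ θ ∈ Y, ∀ g : G, ¬ p ∣ orderOf g → (θ : G → ℂ) g = (χ : G → ℂ) g - 1
  triv_ne : trivialIrr G ≠ χ
  triv_not : trivialIrr G ∉ Y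
  χ_not : χ ∉ Y
  vanish : ∀ ψ : IrrCharacter G, ψ ≠ trivialIrr G → ψ ≠ χ → ψ ∉ Y →
    ∀ g : G, orderOf g = p → (ψ : G → ℂ) g = 0

variable {G : Type u} [Group G] [Fintype G] {p : ℕ} [Fact p.Prime]

theorem exists_setting (hp7 : 7 ≤ p) {x : G} (hx : SCP.Hyp p x) (he : SCP.e x = 2)
    (χ : IrrCharacter G) (hd : charDegree (χ : G → ℂ) + 1 = p)
    (hfaith : ∀ g : G, (χ : G → ℂ) g = (χ : G → ℂ) 1 → g = 1) :
    Nonempty (Setting G p) := by
  classical
  have hp : p.Prime := Fact.out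
  obtain ⟨t, ht⟩ : ∃ t, p = 2 * t + 1 := hp.odd_of_ne_two (by omega)
  obtain ⟨X, Y, c, ε, H⟩ := SCP.exists_chars hx
  rw [he] at H
  have hYc : Y.card = t := by have := H.card_Y; omega
  have hXdeg : ∀ ψ : IrrCharacter G, charDegree (ψ : G → ℂ) = 1 ∨ charDegree (ψ : G → ℂ) + 1 = p →
      ψ ∈ X := by
    intro ψ hψ
    have hnd : ¬ p ∣ charDegree (ψ : G → ℂ) := fun h => by
      rcases hψ with h1 | h1
      · rw [h1] at h; exact hp.not_dvd_one h
      · exact hp.not_dvd_one ((Nat.dvd_add_right h).1 (dvd_of_eq h1.symm))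
    refine (Finset.mem_union.1 (show ψ ∈ X ∪ Y by
      by_contra hc; exact hnd (H.dvd_deg ψ hc))).resolve_right fun h => ?_
    obtain ⟨k, hk⟩ := (H.deg_Y ψ h).dvd
    push_cast at hk
    have hdvd : ∀ a : ℤ, a ∣ 3 → a ≤ 3 := fun a ha => Int.le_of_dvd (by norm_num) ha
    rcases hψ with h1 | h1 <;> rcases H.ε_sign with e1 | e1 <;> rw [e1] at hk
    · rw [h1] at hk
      have h2 := Int.le_of_dvd (show (0 : ℤ) < 1 by norm_num) ⟨k, by linear_combination hk⟩ (a := (p : ℤ))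
      omega
    · rw [h1] at hk
      have h2 := hdvd (p : ℤ) ⟨-k, by linear_combination -hk⟩
      omega
    · have h2 := hdvd (p : ℤ) ⟨k + 1, by
        have : (charDegree (ψ : G → ℂ) : ℤ) + 1 = p := by exact_mod_cast h1
        linear_combination hk + this⟩
      omega
    · have h2 := Int.le_of_dvd (show (0 : ℤ) < 1 by norm_num) ⟨-(k + 1), by
        have : (charDegree (ψ : G → ℂ) : ℤ) + 1 = p := by exact_mod_cast h1
        linear_combination -hk - this⟩ (a := (p : ℤ))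
      omega
  set τ := trivialIrr G with hτ
  have hτv : ∀ g : G, (τ : G → ℂ) g = 1 := fun g => rfl
  have hd1 : charDegree (τ : G → ℂ) = 1 := Nat.cast_injective (R := ℂ)
    ((charDeg_spec' τ).symm.trans ((hτv 1).trans Nat.cast_one.symm))
  have hτX := hXdeg τ (Or.inl hd1)
  have hχX := hXdeg χ (Or.inr hd)
  have hne : τ ≠ χ := fun e1 => by rw [← e1, hd1] at hd; omega
  have hX : X = {τ, χ} := (Finset.eq_of_subset_of_card_le
    (Finset.insert_subset hτX (Finset.singleton_subset_iff.2 hχX))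
    (by rw [H.card_X, Finset.card_pair hne])).symm
  have hdeg : (χ : G → ℂ) 1 = 2 * (t : ℂ) := by
    rw [charDeg_spec', show charDegree (χ : G → ℂ) = 2 * t by omega]; push_cast; rfl
  let χ' : IrrCharacter G := ⟨fun g => conj ((χ : G → ℂ) g), IsIrr.conj χ.2⟩
  have hχ' : χ' = χ := by
    have h1 : charDegree (χ' : G → ℂ) = charDegree (χ : G → ℂ) := by
      apply Nat.cast_injective (R := ℂ)
      rw [← charDeg_spec', ← charDeg_spec']
      show conj ((χ : G → ℂ) 1) = _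
      rw [charDeg_spec', Complex.conj_natCast]
    have h2 := hXdeg χ' (Or.inr (by rw [h1, hd]))
    rw [hX, Finset.mem_insert, Finset.mem_singleton] at h2
    exact h2.resolve_left fun e1 => by rw [e1, hd1] at h1; omega
  have hcτ : (c τ : ℂ) = -1 := by
    have h1 := H.value τ hτX x hx.ord
    rw [hτv] at h1
    linear_combination h1
  have hcχ : c χ = 1 := by
    refine (H.c_sign χ hχX).resolve_right fun e1 => ?_
    obtain ⟨k, hk⟩ := (H.deg_X χ hχX).dvd
    rw [e1] at hk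
    push_cast at hk
    have h2 := Int.le_of_dvd (show (0 : ℤ) < 2 by norm_num) ⟨k + 1, by
      have : (charDegree (χ : G → ℂ) : ℤ) + 1 = p := by exact_mod_cast hd
      linear_combination hk + this⟩ (a := (p : ℤ))
    omega
  have hreg : ∀ θ ∈ Y, ∀ g : G, ¬ p ∣ orderOf g → (ε : ℂ) * (θ : G → ℂ) g = 1 - (χ : G → ℂ) g := by
    intro θ hθ g hg
    have h1 := H.regular θ hθ g hg
    rw [hX, Finset.sum_pair hne, hcτ, hcχ, Int.cast_one, hτv] at h1
    linear_combination h1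
  obtain ⟨θ₀, hθ₀⟩ := Finset.card_pos.1 (show 0 < Y.card by omega)
  have h1reg : ¬ p ∣ orderOf (1 : G) := by rw [orderOf_one]; exact hp.not_dvd_one
  have hε : (ε : ℂ) = -1 := by
    rcases H.ε_sign with e1 | e1
    · exfalso
      have h1 := hreg θ₀ hθ₀ 1 h1reg
      rw [e1, hdeg, charDeg_spec', Int.cast_one, one_mul] at h1
      have h2 : ((charDegree (θ₀ : G → ℂ) + 2 * t : ℕ) : ℂ) = ((1 : ℕ) : ℂ) := by
        push_cast; linear_combination h1
      have := Nat.cast_injective h2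
      omega
    · rw [e1]; norm_num
  refine ⟨{
    x := x, hx := hx, he := he, t := t, ht := ht.symm, ht3 := by omega, χ := χ, Y := Y, hY := hYc
    faith := hfaith, deg := hdeg
    real := fun g => congrFun (congrArg Subtype.val hχ') g
    at_p := fun g hg => by rw [H.value χ hχX g hg, hcχ]; norm_num
    vY := fun θ hθ g hg => ?_
    triv_ne := hne
    triv_not := fun h => Finset.disjoint_left.1 H.disj hτX h
    χ_not := fun h => Finset.disjoint_left.1 H.disj hχX h
    vanish := fun ψ h1 h2 h3 g hg => H.vanish ψ (fun h => ?_) g hg }⟩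
  · have h1 := hreg θ hθ g hg
    rw [hε] at h1
    linear_combination -h1
  · rw [hX, Finset.mem_union, Finset.mem_insert, Finset.mem_singleton] at h
    rcases h with (h | h) | h
    · exact h1 h
    · exact h2 h
    · exact h3 h

/-- The values of a character on the normalizer of `u`. -/
theorem dihedral_sum (S : OrdP.Self G p) (h : SCP.Hyp p S.u) (he : SCP.e S.u = 2) {Ψ : G → ℂ}
    (hΨ : IsCharacter G Ψ) {w z : ℂ} (hw : ∀ g : G, orderOf g = p → Ψ g = w)
    (hz : ∀ g : G, IsConj S.t g → Ψ g = z) :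
    (∃ a : ℕ, Ψ 1 + ((p : ℂ) - 1) * w + (p : ℂ) * z = 2 * (p : ℂ) * (a : ℂ)) ∧
      ∃ b : ℕ, Ψ 1 + ((p : ℂ) - 1) * w - (p : ℂ) * z = 2 * (p : ℂ) * (b : ℂ) := by
  classical
  have hp : p.Prime := Fact.out
  haveI : NeZero p := ⟨hp.ne_zero⟩
  have hp2 : p ≠ 2 := by
    intro h2
    have h1 := SCP.e_dvd h
    rw [he, h2] at h1
    norm_num at h1
  set D := SCP.N S.u with hD
  have hu : S.u ∈ D := Subgroup.le_normalizer (Subgroup.mem_zpowers S.u)
  have hmemt : S.t ∈ D := SCP.mem_N_of_conj h (Subgroup.mem_zpowers S.u) S.u_ne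
    (by rw [S.hinv]; exact inv_mem (Subgroup.mem_zpowers S.u))
  let f : Fin p ⊕ Fin p → D := Sum.elim (fun i => ⟨S.u ^ (i : ℕ), pow_mem hu _⟩)
    (fun i => ⟨S.t * S.u ^ (i : ℕ), mul_mem hmemt (pow_mem hu _)⟩)
  have hinj' : ∀ i j : Fin p, S.u ^ (i : ℕ) = S.u ^ (j : ℕ) → i = j := fun i j e1 =>
    Fin.ext (pow_injOn_Iio_orderOf (by simp [S.hu]) (by simp [S.hu]) e1)
  have htP : ∀ i : ℕ, ∀ j : ℕ, S.t * S.u ^ i ≠ S.u ^ j := fun i j e1 => by
    have h1 : S.t ∈ Subgroup.zpowers S.u := by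
      rw [show S.t = S.u ^ j * (S.u ^ i)⁻¹ by rw [← e1, mul_inv_cancel_right]]
      exact mul_mem (Subgroup.npow_mem_zpowers _ _) (inv_mem (Subgroup.npow_mem_zpowers _ _))
    have h2 := Subgroup.orderOf_dvd_natCard _ h1
    rw [Nat.card_zpowers, S.hu, S.ht] at h2
    exact hp2 ((Nat.prime_dvd_prime_iff_eq Nat.prime_two hp).1 h2).symm
  have hinj : Function.Injective f := by
    rintro (i | i) (j | j) e1 <;> simp only [f, Sum.elim_inl, Sum.elim_inr, Subtype.mk.injEq] at e1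
    · rw [hinj' i j e1]
    · exact absurd e1.symm (htP _ _)
    · exact absurd e1 (htP _ _)
    · rw [hinj' i j (mul_left_cancel e1)]
  have hcard : Nat.card D = 2 * p := by rw [hD, SCP.card_N h, he, mul_comm]
  have hbij : Function.Bijective f := (Nat.bijective_iff_injective_and_card f).2
    ⟨hinj, by rw [hcard, Nat.card_sum, Nat.card_fin]; ring⟩
  -- the sign of the elements of the normalizer
  have hidx : ((SCP.P S.u).subgroupOf D).index = 2 := by
    rw [← he]; rfl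
  let sg : D →* ℂˣ :=
    { toFun := fun g => if g ∈ (SCP.P S.u).subgroupOf D then 1 else -1
      map_one' := if_pos (one_mem _)
      map_mul' := fun g k => by
        by_cases hg : g ∈ (SCP.P S.u).subgroupOf D <;> by_cases hk : k ∈ (SCP.P S.u).subgroupOf D <;>
          simp [hg, hk, Subgroup.mul_mem_iff_of_index_two hidx] }
  have hP : ∀ i : Fin p, f (Sum.inl i) ∈ (SCP.P S.u).subgroupOf D := fun i =>
    Subgroup.mem_subgroupOf.2 (Subgroup.npow_mem_zpowers _ _)
  have hnP : ∀ i : Fin p, f (Sum.inr i) ∉ (SCP.P S.u).subgroupOf D := fun i hm => by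
    obtain ⟨j, hj⟩ := (isOfFinOrder_of_finite S.u).mem_powers_iff_mem_zpowers.2
      (Subgroup.mem_subgroupOf.1 hm)
    exact htP i j hj.symm
  have h2 : ∀ i : Fin p, Ψ (f (Sum.inr i) : G) = z := fun i => hz _ (by
    simpa [f] using S.conj_t hp2 ((i : ℕ) : ℤ))
  have h1 : ∑ i : Fin p, Ψ (f (Sum.inl i) : G) = Ψ 1 + ((p : ℂ) - 1) * w := by
    rw [← Finset.add_sum_erase _ _ (Finset.mem_univ (0 : Fin p)),
      Finset.sum_congr rfl (s₁ := Finset.univ.erase (0 : Fin p)) (g := fun _ => w) (fun i hi => hw _ ?_),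
      Finset.sum_const, Finset.card_erase_of_mem (Finset.mem_univ _), Finset.card_univ,
      Fintype.card_fin, nsmul_eq_mul, Nat.cast_sub hp.one_le, Nat.cast_one]
    · simp [f]
    · refine SCP.orderOf_of_mem h (Subgroup.npow_mem_zpowers _ _) fun e1 => ?_
      exact Finset.ne_of_mem_erase hi (hinj' i 0 (by simpa [f] using e1))
  have key : ∀ (l : D →* ℂˣ) (s : ℂ), (∀ i, (l (f (Sum.inl i)) : ℂ) = 1) →
      (∀ i, (l (f (Sum.inr i)) : ℂ) = s) → conj s = s →
      ∃ a : ℕ, Ψ 1 + ((p : ℂ) - 1) * w + s * ((p : ℂ) * z) = 2 * (p : ℂ) * (a : ℂ) := by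
    intro l s hl hr hs
    obtain ⟨a, ha⟩ := IsChar.classInner_nat (IsChar.res hΨ D)
      (IsIrr.isCharacter (isIrr_linear l))
    refine ⟨a, ?_⟩
    rw [← ha, classInner, hcard, Nat.cast_mul, Nat.cast_two, mul_inv_cancel_left₀
      (mul_ne_zero two_ne_zero (Nat.cast_ne_zero.2 hp.ne_zero)),
      ← hbij.sum_comp (fun g : D => Ψ g * conj (l g : ℂ)), Fintype.sum_sum_type,
      Finset.sum_congr (f := fun i => Ψ (f (Sum.inl i) : G) * conj (l (f (Sum.inl i)) : ℂ))
        (g := fun i => Ψ (f (Sum.inl i) : G)) rfl (fun i _ => by rw [hl i, map_one, mul_one]),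
      Finset.sum_congr (f := fun i => Ψ (f (Sum.inr i) : G) * conj (l (f (Sum.inr i)) : ℂ))
        (g := fun _ => s * z) rfl (fun i _ => by rw [h2 i, hr i, hs, mul_comm]),
      h1, Finset.sum_const, Finset.card_univ, Fintype.card_fin, nsmul_eq_mul]
    ring
  refine ⟨?_, ?_⟩
  · obtain ⟨a, ha⟩ := key 1 1 (fun _ => rfl) (fun _ => rfl) (map_one _)
    exact ⟨a, by rw [← ha, one_mul]⟩
  · obtain ⟨b, hb⟩ := key sg (-1) (fun i => by simp [sg, hP i]) (fun i => by simp [sg, hnP i])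
      (by rw [map_neg, map_one])
    exact ⟨b, by rw [← hb]; ring⟩

namespace Setting

variable (D : Setting G p)

/-- A sum over the characters not vanishing at `x`. -/
theorem sum_supp (F : IrrCharacter G → ℂ)
    (hF : ∀ ψ : IrrCharacter G, (ψ : G → ℂ) D.x = 0 → F ψ = 0) :
    ∑ ψ, F ψ = F (trivialIrr G) + F D.χ + ∑ ψ ∈ D.Y, F ψ := by
  classical
  rw [← Finset.sum_subset (Finset.subset_univ (insert (trivialIrr G) (insert D.χ D.Y))) (fun ψ _ hψ => ?_),
    Finset.sum_insert (by simp [D.triv_ne, D.triv_not]), Finset.sum_insert D.χ_not, add_assoc]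
  simp only [Finset.mem_insert, not_or] at hψ
  exact hF ψ (D.vanish ψ hψ.1 hψ.2.1 hψ.2.2 _ D.hx.ord)

include D in
theorem p_ge : 7 ≤ p := by have := D.ht; have := D.ht3; omega

include D in
theorem one_reg : ¬ p ∣ orderOf (1 : G) := by
  rw [orderOf_one]; exact (Fact.out : p.Prime).not_dvd_one

theorem degY {θ : IrrCharacter G} (hθ : θ ∈ D.Y) : (θ : G → ℂ) 1 = 2 * (D.t : ℂ) - 1 := by
  rw [D.vY θ hθ 1 D.one_reg, D.deg]

theorem cast_ht : (p : ℂ) = 2 * (D.t : ℂ) + 1 := by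
  have h : ((2 * D.t + 1 : ℕ) : ℂ) = (p : ℂ) := congrArg Nat.cast D.ht
  push_cast at h
  exact h.symm

theorem sum_Y_x : ∑ θ ∈ D.Y, (θ : G → ℂ) D.x = 1 := by
  classical
  have h := regular_expansion (G := G) D.x
  rw [if_neg (SCP.ne_one D.hx), D.sum_supp _ (fun ψ hψ => by rw [hψ, mul_zero]), D.deg,
    D.at_p _ D.hx.ord, Finset.sum_congr rfl fun θ hθ => by rw [D.degY hθ], ← Finset.mul_sum] at h
  simp only [trivialIrr] at h
  refine mul_left_cancel₀ (show (2 * (D.t : ℂ) - 1) ≠ 0 from sub_ne_zero.2 ?_) ?_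
  · exact_mod_cast (show 2 * D.t ≠ 1 by omega)
  · linear_combination h

include D in
theorem exists_self : ∃ S : OrdP.Self G p, SCP.Hyp p S.u ∧ SCP.e S.u = 2 := by
  have hp2 : p ≠ 2 := by have := D.p_ge; omega
  obtain ⟨S⟩ := Few.exists_inv D.hx hp2 (by rw [D.he])
  have h := SCP.hyp_of_ord D.hx S.hu
  refine ⟨S, h, ?_⟩
  have h1 := SCP.card_N h
  have h2 : Nat.card (SCP.N S.u) = 2 * p := by
    obtain ⟨c, hc⟩ := SCP.exists_conj_mem D.hx S.hu
    have hc1 : c * S.u * c⁻¹ ≠ 1 := fun e1 => S.u_ne (by simpa [mul_inv_eq_one] using e1)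
    have h3 := SCP.zpowers_eq_of_mem D.hx hc hc1
    have h4 : SCP.N D.x = (SCP.N S.u).map (MulAut.conj c).toMonoidHom := by
      rw [show SCP.N D.x = Subgroup.normalizer ((Subgroup.zpowers D.x : Subgroup G) : Set G) from rfl]
      change _ = SCP.P D.x at h3
      rw [show (Subgroup.zpowers D.x) = SCP.P D.x from rfl, ← h3, show c * S.u * c⁻¹ = (MulAut.conj c).toMonoidHom S.u from rfl, ← MonoidHom.map_zpowers]
      exact (Subgroup.map_normalizer_eq_of_bijective _ (MulAut.conj c).bijective).symm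
    rw [Nat.card_congr ((SCP.N S.u).equivMapOfInjective (MulAut.conj c).toMonoidHom
      (MulAut.conj c).injective).toEquiv, ← h4, SCP.card_N D.hx, D.he, mul_comm]
  rw [h2, mul_comm] at h1
  exact Nat.eq_of_mul_eq_mul_left (Fact.out : p.Prime).pos h1.symm

/-- An inverting involution has value zero. -/
theorem at_t {S : OrdP.Self G p} (h : SCP.Hyp p S.u) (he : SCP.e S.u = 2) :
    (D.χ : G → ℂ) S.t = 0 := by
  have hc : ∀ g : G, IsConj S.t g → (D.χ : G → ℂ) g = (D.χ : G → ℂ) S.t := fun g hg => by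
    obtain ⟨c, rfl⟩ := isConj_iff.1 hg
    exact irr_classFun D.χ _ _
  obtain ⟨⟨a, ha⟩, b, hb⟩ := dihedral_sum S h he (IsIrr.isCharacter D.χ.2) D.at_p hc
  rw [D.deg, D.cast_ht] at ha hb
  have hp0 : (2 * (D.t : ℂ) + 1) ≠ 0 := by exact_mod_cast (show 2 * D.t + 1 ≠ 0 by omega)
  have h1 : (D.χ : G → ℂ) S.t = 2 * (a : ℂ) := mul_left_cancel₀ hp0 (by linear_combination ha)
  have h2 : ((2 * a + 2 * b : ℕ) : ℂ) = ((0 : ℕ) : ℂ) := by
    push_cast
    exact mul_left_cancel₀ hp0 (by linear_combination -ha - hb)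
  have h3 := Nat.cast_injective h2
  rw [h1, show a = 0 by omega, Nat.cast_zero, mul_zero]

end Setting

end Cfsg.Agent.Block.PMinusOne
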