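import Mathlib
import Cfsg.Agent.Lib.Block.PMinusOne.Data

/-!
The values of the character of degree `p - 1` on the elements of order prime to `p`.
-/

set_option autoImplicit false

namespace Cfsg.Agent.Block.PMinusOne

open scoped ComplexConjugate
open Cfsg Cfsg.Agent.Block Cfsg.Agent.Char

universe u

variable {G : Type u} [Group G] [Fintype G] {p : ℕ} [Fact p.Prime]

namespace Setting

variable (D : Setting G p)

/-- The alternating square is the sum of the exceptional characters. -/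
theorem alt_eq {g : G} (hg : ¬ p ∣ orderOf g) :
    ((D.χ : G → ℂ) g * (D.χ : G → ℂ) g - (D.χ : G → ℂ) (g * g)) / 2 =
      (D.t : ℂ) * ((D.χ : G → ℂ) g - 1) := by
  classical
  have hp : p.Prime := Fact.out
  have hp2 : p ≠ 2 := by have := D.p_ge; omega
  set χ := (D.χ : G → ℂ) with hχdef
  set A : G → ℂ := fun g => (χ g * χ g - χ (g * g)) / 2 with hA
  have hAp : ∀ g : G, orderOf g = p → A g = 1 := fun g hg => by
    have h2 : orderOf (g * g) = p := by
      rw [← pow_two, Nat.Coprime.orderOf_pow ?_, hg]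
      rw [hg]; exact (Nat.coprime_primes hp Nat.prime_two).2 hp2
    rw [hA, hχdef]
    simp only [D.at_p g hg, D.at_p _ h2]
    norm_num
  obtain ⟨m, hm, hdec⟩ := IsChar.exists_decomp_inner (isChar_alt (IsIrr.isCharacter D.χ.2))
  change A = _ at hdec
  replace hm : ∀ φ : IrrCharacter G, classInner A (φ : G → ℂ) = m φ := hm
  have hG : (Nat.card G : ℂ) ≠ 0 := Nat.cast_ne_zero.2 Nat.card_pos.ne'
  -- no trivial constituent, from the normalizer of `u`
  obtain ⟨S, hS, hSe⟩ := D.exists_self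
  set τ := trivialIrr G with hτ
  have hτv : ∀ g : G, (τ : G → ℂ) g = 1 := fun g => rfl
  have hmτ : m τ = 0 := by
    have hR : IsCharacter G (∑ φ ∈ Finset.univ.erase τ, (m φ : ℂ) • (φ : G → ℂ)) :=
      IsChar.sum fun φ _ => IsChar.nsmul (IsIrr.isCharacter φ.2) _
    have hRv : ∀ g : G, (∑ φ ∈ Finset.univ.erase τ, (m φ : ℂ) • (φ : G → ℂ)) g = A g - m τ := by
      intro g
      conv_rhs => rw [hdec, ← Finset.add_sum_erase _ _ (Finset.mem_univ τ)]
      rw [Pi.add_apply, Pi.smul_apply, hτv, smul_eq_mul, mul_one]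
      ring
    obtain ⟨⟨a, ha⟩, -⟩ := dihedral_sum S hS hSe hR (w := 1 - m τ) (z := -(D.t : ℂ) - m τ)
      (fun g hg => by rw [hRv, hAp g hg]) (fun g hg => by
        obtain ⟨c, hc⟩ := isConj_iff.1 hg
        have h2 : g * g = 1 := by
          rw [← hc, show c * S.t * c⁻¹ * (c * S.t * c⁻¹) = c * (S.t * S.t) * c⁻¹ by group,
            Invol.mul_self_of_orderOf_two S.ht]
          group
        rw [hRv, hA, hχdef]
        simp only [h2, D.deg]
        rw [← hc, irr_classFun D.χ, D.at_t hS hSe]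
        ring)
    rw [hRv, hA, hχdef] at ha
    simp only [one_mul, D.deg, D.cast_ht] at ha
    have hp0 : (2 * (D.t : ℂ) + 1) ≠ 0 := by exact_mod_cast (show 2 * D.t + 1 ≠ 0 by omega)
    have h1 : ((m τ + a : ℕ) : ℂ) = ((0 : ℕ) : ℂ) := by
      push_cast
      exact mul_left_cancel₀ (mul_ne_zero two_ne_zero hp0) (by linear_combination -ha)
    have := Nat.cast_injective h1
    omega
  obtain ⟨θ₀, hθ₀⟩ := Finset.card_pos.1 (show 0 < D.Y.card by rw [D.hY]; have := D.ht3; omega)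
  have hsum0 : ∀ θ ∈ D.Y, ∑ g : G, conj ((θ : G → ℂ) g) = 0 := by
    intro θ hθ
    have hθτ : θ ≠ τ := fun e1 => D.triv_not (by rw [← hτ, ← e1]; exact hθ)
    have h := classInner_irr_eq_ite τ.2 θ.2
    rw [classInner, if_neg (fun e1 => hθτ (Subtype.ext e1.symm)), mul_eq_zero] at h
    have h' := h.resolve_left (inv_ne_zero hG)
    rwa [Finset.sum_congr rfl fun g _ => (show (τ : G → ℂ) g * conj ((θ : G → ℂ) g) =
      conj ((θ : G → ℂ) g) by rw [hτv, one_mul])] at h'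
  have hconst : ∀ θ ∈ D.Y, m θ = m θ₀ := by
    intro θ hθ
    apply Nat.cast_injective (R := ℂ)
    rw [← hm, ← hm, classInner, classInner]
    congr 1
    rw [← sub_eq_zero, ← Finset.sum_sub_distrib, ← sub_eq_zero.2 ((hsum0 θ hθ).trans (hsum0 θ₀ hθ₀).symm),
      ← Finset.sum_sub_distrib]
    refine Finset.sum_congr rfl fun g _ => ?_
    by_cases hgp : p ∣ orderOf g
    · rw [hAp g (Few.ord_eq_p D.hx hgp), one_mul, one_mul]
    · rw [D.vY θ hθ g hgp, D.vY θ₀ hθ₀ g hgp]; ring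
  have hkey : ∀ g : G, A g = ∑ φ : IrrCharacter G, (m φ : ℂ) * (φ : G → ℂ) g := fun g => by
    conv_lhs => rw [hdec]
    exact sum_irr_apply _ g
  have hM : m θ₀ = 1 + m D.χ := by
    have h := hkey D.x
    rw [hAp _ D.hx.ord, D.sum_supp _ (fun ψ hψ => by rw [hψ, mul_zero]), hmτ, D.at_p _ D.hx.ord,
      Finset.sum_congr rfl fun θ hθ => by rw [hconst θ hθ], ← Finset.mul_sum, D.sum_Y_x] at h
    push_cast at h
    apply Nat.cast_injective (R := ℂ)
    push_cast
    linear_combination -h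
  -- the degree
  have hdt : 0 < D.t := by have := D.ht3; omega
  have h1v : A 1 = ((D.t * (2 * D.t - 1) : ℕ) : ℂ) := by
    rw [hA, hχdef]
    simp only [one_mul, D.deg]
    rw [Nat.cast_mul, Nat.cast_sub (by omega)]
    push_cast
    ring
  have hdχ : charDegree (D.χ : G → ℂ) = 2 * D.t := by
    apply Nat.cast_injective (R := ℂ)
    rw [← charDeg_spec', D.deg]; push_cast; rfl
  have hdY : ∀ θ ∈ D.Y, charDegree (θ : G → ℂ) = 2 * D.t - 1 := fun θ hθ => by
    apply Nat.cast_injective (R := ℂ)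
    rw [← charDeg_spec', D.degY hθ, Nat.cast_sub (by omega)]; push_cast; rfl
  have hdeg : ∑ φ : IrrCharacter G, m φ * charDegree (φ : G → ℂ) = D.t * (2 * D.t - 1) := by
    apply Nat.cast_injective (R := ℂ)
    rw [← h1v, hkey, Nat.cast_sum]
    exact Finset.sum_congr rfl fun φ _ => by rw [Nat.cast_mul, charDeg_spec']
  rw [← Finset.sum_sdiff (Finset.subset_univ (insert D.χ D.Y)), Finset.sum_insert D.χ_not, hdχ,
    Finset.sum_congr rfl (s₁ := D.Y) (g := fun _ => m θ₀ * (2 * D.t - 1)) (fun θ hθ => by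
      rw [hconst θ hθ, hdY θ hθ]), Finset.sum_const, D.hY, smul_eq_mul, hM, add_mul, one_mul,
    mul_add] at hdeg
  have hz : m D.χ = 0 := by
    by_contra hne
    have : 1 * (2 * D.t) ≤ m D.χ * (2 * D.t) := Nat.mul_le_mul_right _ (Nat.pos_of_ne_zero hne)
    omega
  have hrest : ∀ φ ∈ Finset.univ \ insert D.χ D.Y, m φ = 0 := fun φ hφ => by
    have h := Finset.single_le_sum (f := fun φ : IrrCharacter G => m φ * charDegree (φ : G → ℂ))
      (fun _ _ => Nat.zero_le _) hφ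
    have h2 : m φ * charDegree (φ : G → ℂ) = 0 := by omega
    exact (mul_eq_zero.1 h2).resolve_right (charDeg_pos φ).ne'
  show A g = _
  rw [hkey g, ← Finset.sum_sdiff (Finset.subset_univ (insert D.χ D.Y)),
    Finset.sum_eq_zero (fun φ hφ => by rw [hrest φ hφ, Nat.cast_zero, zero_mul]), zero_add,
    Finset.sum_insert D.χ_not, hz, Nat.cast_zero, zero_mul, zero_add,
    Finset.sum_congr rfl (g := fun _ => χ g - 1) (fun θ hθ => by
      rw [hconst θ hθ, hM, hz, add_zero, Nat.cast_one, one_mul, D.vY θ hθ g hg]),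
    Finset.sum_const, D.hY, nsmul_eq_mul]

/-- The real value. -/
noncomputable def v (g : G) : ℝ := ((D.χ : G → ℂ) g).re

theorem val_eq (g : G) : (D.χ : G → ℂ) g = (D.v g : ℂ) :=
  (Complex.conj_eq_iff_re.1 (D.real g)).symm

theorem v_one : D.v 1 = 2 * (D.t : ℝ) := by
  simp [v, D.deg]

theorem rec_eq {g : G} (hg : ¬ p ∣ orderOf g) :
    D.v (g * g) = D.v g ^ 2 - 2 * (D.t : ℝ) * D.v g + 2 * (D.t : ℝ) := by
  have h := D.alt_eq hg
  rw [D.val_eq g, D.val_eq (g * g)] at h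
  have h2 : ((D.v (g * g) : ℝ) : ℂ) =
      ((D.v g ^ 2 - 2 * (D.t : ℝ) * D.v g + 2 * (D.t : ℝ) : ℝ) : ℂ) := by
    push_cast
    linear_combination (-2 : ℂ) * h
  exact_mod_cast h2

theorem abs_v_le (g : G) : |D.v g| ≤ 2 * (D.t : ℝ) := by
  have h := IsChar.norm_le (IsIrr.isCharacter D.χ.2) g
  rw [D.val_eq g, D.deg, Complex.norm_real, norm_mul, Complex.norm_natCast] at h
  simpa using h

theorem v_inv (g : G) : D.v g⁻¹ = D.v g := by
  rw [v, IsIrr.apply_inv D.χ.2, D.real]; rfl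

omit [Fintype G] in
theorem reg_sq {g : G} (hg : ¬ p ∣ orderOf g) : ¬ p ∣ orderOf (g * g) := fun h =>
  hg (h.trans (orderOf_dvd_of_mem_zpowers (mul_mem (Subgroup.mem_zpowers g) (Subgroup.mem_zpowers g))))

theorem v_nonneg {g : G} (hg : ¬ p ∣ orderOf g) : 0 ≤ D.v g := by
  by_contra hc
  push Not at hc
  have h1 := D.rec_eq hg
  have h2 := (abs_le.1 (D.abs_v_le (g * g))).2
  have ht : (3 : ℝ) ≤ D.t := by exact_mod_cast D.ht3
  nlinarith

theorem faith_v {g : G} (h : D.v g = 2 * (D.t : ℝ)) : g = 1 :=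
  D.faith g (by rw [D.val_eq g, h, D.deg]; push_cast; ring)

/-- The values away from the identity lie in `[0, 2)`. -/
theorem v_lt_two {g : G} (hg : ¬ p ∣ orderOf g) (h1 : g ≠ 1) : D.v g < 2 := by
  have ht : (3 : ℝ) ≤ D.t := by exact_mod_cast D.ht3
  have hr := D.rec_eq hg
  have hre : 4 * D.v g - 3 * D.v 1 ≤ D.v (g * g) := re_sq_le (IsIrr.isCharacter D.χ.2) g
  rw [D.v_one] at hre
  have h0 := D.v_nonneg hg
  have hle := (abs_le.1 (D.abs_v_le g)).2
  have hsq0 := D.v_nonneg (reg_sq hg)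
  by_contra hc
  push Not at hc
  have h2 : D.v g * (2 * (D.t : ℝ) - D.v g) ≤ 2 * (D.t : ℝ) := by nlinarith
  have h4 : D.v g ≤ 4 := by
    by_contra hc4
    push Not at hc4
    have hne : 2 * (D.t : ℝ) - D.v g ≠ 0 := fun e => h1 (D.faith_v (by linarith))
    have hpos : 0 < 2 * (D.t : ℝ) - D.v g := lt_of_le_of_ne (by linarith) (Ne.symm hne)
    nlinarith [mul_lt_mul_of_pos_right hc4 hpos]
  nlinarith [mul_nonneg (sub_nonneg.2 hc) (sub_nonneg.2 h4)]

theorem one_or_zero {g : G} (hg : ¬ p ∣ orderOf g) (h1 : g ≠ 1) (h2 : D.v (g * g) = 1) :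
    D.v g = 1 := by
  have hr := D.rec_eq hg
  have ht : (3 : ℝ) ≤ D.t := by exact_mod_cast D.ht3
  have hlt := D.v_lt_two hg h1
  rcases mul_eq_zero.1 (show (D.v g - 1) * (D.v g + 1 - 2 * (D.t : ℝ)) = 0 by linarith) with h | h <;>
    linarith

/-- An involution has value zero. -/
theorem v_involution {g : G} (hg : orderOf g = 2) : D.v g = 0 := by
  have h2 := Invol.mul_self_of_orderOf_two hg
  have hp7 := D.p_ge
  have hgp : ¬ p ∣ orderOf g := fun h => by
    rw [hg] at h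
    have := Nat.le_of_dvd two_pos h
    omega
  have h1 : g ≠ 1 := fun e => by rw [e, orderOf_one] at hg; omega
  have hr := D.rec_eq hgp
  rw [h2, D.v_one] at hr
  have ht : (3 : ℝ) ≤ D.t := by exact_mod_cast D.ht3
  have hlt := D.v_lt_two hgp h1
  rcases mul_eq_zero.1 (show D.v g * (D.v g - 2 * (D.t : ℝ)) = 0 by linarith) with h | h <;> linarith

omit [Fintype G] in
theorem odd_pow {g : G} (ho : Odd (orderOf g)) (i : ℕ) : orderOf (g ^ 2 ^ i) = orderOf g :=
  Nat.Coprime.orderOf_pow ((Nat.coprime_two_right.2 ho).pow_right i)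

/-- The elements of odd order prime to `p` have value one. -/
theorem v_odd {g : G} (hg : ¬ p ∣ orderOf g) (h1 : g ≠ 1) (ho : Odd (orderOf g)) : D.v g = 1 := by
  have ht : (3 : ℝ) ≤ D.t := by exact_mod_cast D.ht3
  have hreg : ∀ i, ¬ p ∣ orderOf (g ^ 2 ^ i) := fun i => by rwa [odd_pow ho i]
  have hne : ∀ i, g ^ 2 ^ i ≠ 1 := fun i e => h1 (orderOf_eq_one_iff.1
    (by rw [← odd_pow ho i, e, orderOf_one]))
  have hstep : ∀ i, (3 : ℝ) ^ i * |D.v g - 1| ≤ |D.v (g ^ 2 ^ i) - 1| := by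
    intro i
    induction i with
    | zero => simp
    | succ i ih =>
      have hr := D.rec_eq (hreg i)
      have hlt := D.v_lt_two (hreg i) (hne i)
      rw [show g ^ 2 ^ (i + 1) = g ^ 2 ^ i * g ^ 2 ^ i by rw [← pow_add, pow_succ, mul_two], hr,
        show D.v (g ^ 2 ^ i) ^ 2 - 2 * (D.t : ℝ) * D.v (g ^ 2 ^ i) + 2 * (D.t : ℝ) - 1 =
          (D.v (g ^ 2 ^ i) - 1) * (D.v (g ^ 2 ^ i) + 1 - 2 * (D.t : ℝ)) by ring, abs_mul, pow_succ]
      have h3 : (3 : ℝ) ≤ |D.v (g ^ 2 ^ i) + 1 - 2 * (D.t : ℝ)| := by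
        rw [abs_of_nonpos (by linarith)]; linarith
      calc (3 : ℝ) ^ i * 3 * |D.v g - 1| = ((3 : ℝ) ^ i * |D.v g - 1|) * 3 := by ring
        _ ≤ _ := mul_le_mul ih h3 (by norm_num) (abs_nonneg _)
  by_contra hv
  have hpos : 0 < |D.v g - 1| := abs_pos.2 (sub_ne_zero.2 hv)
  obtain ⟨i, hi⟩ := pow_unbounded_of_one_lt (2 / |D.v g - 1|) (show (1 : ℝ) < 3 by norm_num)
  rw [div_lt_iff₀ hpos] at hi
  have h0 := D.v_nonneg (hreg i)
  have hlt := D.v_lt_two (hreg i) (hne i)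
  have hb : |D.v (g ^ 2 ^ i) - 1| ≤ 2 := abs_le.2 ⟨by linarith, by linarith⟩
  linarith [hstep i]

end Setting

end Cfsg.Agent.Block.PMinusOne
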