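import Mathlib
import Cfsg.Agent.Lib.Block.Cube.Perfect
import Cfsg.Agent.Lib.Block.PMinusOne.Values

/-!
A self-centralizing element of prime order `p`, normalizer of order `2 p`, and a faithful irreducible
character of degree `p - 1`: the group is `SL(2, p - 1)`.
-/

set_option autoImplicit false

namespace Cfsg.Agent.Block.PMinusOne

open scoped ComplexConjugate
open Cfsg Cfsg.Agent.Block Cfsg.Agent.Char

universe u

variable {G : Type u} [Group G] [Fintype G] {p : ℕ} [Fact p.Prime]

namespace Setting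

variable (D : Setting G p)

/-- The character sum over a cyclic subgroup. -/
theorem sum_zpowers (g : G) [Fintype (Subgroup.zpowers g)] :
    ∃ n : ℤ, ∑ k : Subgroup.zpowers g, D.v k = (orderOf g : ℝ) * n := by
  obtain ⟨n, hn⟩ := IsChar.classInner_nat (IsChar.res (IsIrr.isCharacter D.χ.2) (Subgroup.zpowers g))
    (IsChar.one (G := Subgroup.zpowers g))
  refine ⟨n, ?_⟩
  rw [classInner, inv_mul_eq_iff_eq_mul₀ (Nat.cast_ne_zero.2 Nat.card_pos.ne'),
    Nat.card_zpowers] at hn
  simp only [map_one, mul_one, D.val_eq] at hn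
  rw [← Complex.ofReal_sum] at hn
  exact_mod_cast hn

include D in
/-- An involution commutes with no non-trivial element of odd order prime to `p`. -/
theorem no_odd_commute {z g : G} (hz : orderOf z = 2) (hg : ¬ p ∣ orderOf g) (h1 : g ≠ 1)
    (ho : Odd (orderOf g)) (hc : Commute g z) : False := by
  classical
  have hp : p.Prime := Fact.out
  have hp7 := D.p_ge
  set h := g * z with hhdef
  have hord : orderOf h = orderOf g * 2 := by
    rw [hhdef, hc.orderOf_mul_eq_mul_orderOf_of_coprime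
      (by rw [hz]; exact Nat.coprime_two_right.2 ho), hz]
  have hh : h * h = g * g := by
    rw [hhdef, hc.symm.mul_mul_mul_comm g z, Invol.mul_self_of_orderOf_two hz, mul_one]
  have hpr : ¬ p ∣ orderOf g * 2 := fun hd => (hp.dvd_mul.1 hd).elim hg fun h2 => by
    have := Nat.le_of_dvd two_pos h2
    omega
  have hgz : z ∈ Subgroup.zpowers h := by
    have e : h ^ orderOf g = z := by
      rw [hhdef, hc.mul_pow, pow_orderOf_eq_one, one_mul]
      obtain ⟨k, hk⟩ := ho
      rw [hk, pow_succ, pow_mul, pow_two, Invol.mul_self_of_orderOf_two hz, one_pow, one_mul]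
    exact e ▸ Subgroup.npow_mem_zpowers h _
  obtain ⟨n, hn⟩ := D.sum_zpowers g
  obtain ⟨n', hn'⟩ := D.sum_zpowers h
  have hne0 : ∀ w : G, D.v w = 2 * (D.t : ℝ) ↔ w = 1 := fun w =>
    ⟨D.faith_v, fun e => by rw [e, D.v_one]⟩
  -- the sum over the odd part
  have hk : ∀ k : Subgroup.zpowers g, k ≠ 1 → D.v k = 1 := fun k hk => by
    have hdvd : orderOf (k : G) ∣ orderOf g := orderOf_dvd_of_mem_zpowers k.2
    exact D.v_odd (fun hd => hg (hd.trans hdvd)) (fun e => hk (Subtype.ext e))
      (ho.of_dvd_nat hdvd)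
  rw [← Finset.add_sum_erase _ _ (Finset.mem_univ (1 : Subgroup.zpowers g)),
    Finset.sum_congr rfl (g := fun _ => (1 : ℝ)) (fun k hk' => hk k (Finset.ne_of_mem_erase hk')),
    Finset.sum_const, Finset.card_erase_of_mem (Finset.mem_univ _), Finset.card_univ,
    ← Nat.card_eq_fintype_card, Nat.card_zpowers, OneMemClass.coe_one, D.v_one, nsmul_eq_mul,
    mul_one, Nat.cast_sub (orderOf_pos g), Nat.cast_one] at hn
  -- the sum over all of `⟨h⟩`
  let z' : Subgroup.zpowers h := ⟨z, hgz⟩
  have hz'1 : z' ≠ 1 := fun e => by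
    rw [show z = 1 from congrArg Subtype.val e, orderOf_one] at hz
    omega
  have hk' : ∀ k : Subgroup.zpowers h, k ≠ 1 → k ≠ z' → D.v k = 1 := fun k hk1 hkz => by
    have hdvd : orderOf (k : G) ∣ orderOf g * 2 := hord ▸ orderOf_dvd_of_mem_zpowers k.2
    have hkr : ¬ p ∣ orderOf (k : G) := fun hd => hpr (hd.trans hdvd)
    have hsq : (k : G) * k ≠ 1 := by
      intro e
      have hcyc := IsCyclic.card_pow_eq_one_le (α := Subgroup.zpowers h) (n := 2) two_pos
      have hsub : ({1, z', k} : Finset (Subgroup.zpowers h)) ⊆ Finset.univ.filter fun a => a ^ 2 = 1 := by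
        intro a ha
        simp only [Finset.mem_insert, Finset.mem_singleton] at ha
        refine Finset.mem_filter.2 ⟨Finset.mem_univ _, ?_⟩
        rcases ha with rfl | rfl | rfl
        · exact one_pow 2
        · exact Subtype.ext (by rw [Subgroup.coe_pow, pow_two]; exact Invol.mul_self_of_orderOf_two hz)
        · exact Subtype.ext (by rw [Subgroup.coe_pow, pow_two]; exact e)
      have h3 := Finset.card_le_card hsub
      rw [Finset.card_eq_three.2 ⟨1, z', k, hz'1.symm, Ne.symm hk1, Ne.symm hkz, rfl⟩] at h3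
      omega
    have hkk : ((k : G) * k) ∈ Subgroup.zpowers g := by
      obtain ⟨i, hi⟩ := k.2
      refine ⟨i + i, ?_⟩
      show g ^ (i + i) = _
      rw [← hi, ← zpow_add, ← two_mul, zpow_mul, zpow_mul, zpow_two, zpow_two, hh]
    exact D.one_or_zero hkr (fun e => hk1 (Subtype.ext e))
      (hk ⟨_, hkk⟩ fun e => hsq (congrArg Subtype.val e))
  rw [← Finset.add_sum_erase _ _ (Finset.mem_univ (1 : Subgroup.zpowers h)),
    ← Finset.add_sum_erase _ _ (Finset.mem_erase.2 ⟨hz'1, Finset.mem_univ z'⟩),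
    Finset.sum_congr rfl (g := fun _ => (1 : ℝ)) (fun k hk2 => hk' k
      (Finset.ne_of_mem_erase (Finset.mem_of_mem_erase hk2)) (Finset.ne_of_mem_erase hk2)),
    Finset.sum_const, Finset.card_erase_of_mem (Finset.mem_erase.2 ⟨hz'1, Finset.mem_univ z'⟩),
    Finset.card_erase_of_mem (Finset.mem_univ _), Finset.card_univ, ← Nat.card_eq_fintype_card,
    Nat.card_zpowers, hord, OneMemClass.coe_one, D.v_one, show D.v (z' : G) = 0 from D.v_involution hz,
    nsmul_eq_mul, mul_one, show orderOf g * 2 - 1 - 1 = orderOf g * 2 - 2 by omega,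
    Nat.cast_sub (by have := orderOf_pos g; omega), Nat.cast_mul, zero_add] at hn'
  push_cast at hn'
  have a1 : (2 * (D.t : ℤ) - 1) = (orderOf g : ℤ) * (n - 1) := by
    have : (((2 * (D.t : ℤ) - 1 : ℤ)) : ℝ) = (((orderOf g : ℤ) * (n - 1) : ℤ) : ℝ) := by
      push_cast; linarith
    exact_mod_cast this
  have a2 : (D.t : ℤ) - 1 = (orderOf g : ℤ) * (n' - 1) := by
    have : (((D.t : ℤ) - 1 : ℤ) : ℝ) = (((orderOf g : ℤ) * (n' - 1) : ℤ) : ℝ) := by
      push_cast; linarith
    exact_mod_cast this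
  have a3 := Int.eq_one_of_dvd_one (by positivity)
    (show (orderOf g : ℤ) ∣ 1 from ⟨(n - 1) - 2 * (n' - 1), by linear_combination a1 - 2 * a2⟩)
  exact h1 (orderOf_eq_one_iff.1 (by exact_mod_cast a3))

include D in
/-- There is no element of order four. -/
theorem no_four {g : G} (h : orderOf g = 4) : False := by
  classical
  have hp7 := D.p_ge
  have hg : ¬ p ∣ orderOf g := fun hd => by
    rw [h] at hd
    have := Nat.le_of_dvd (by norm_num) hd
    omega
  have h1 : g ≠ 1 := fun e => by rw [e, orderOf_one] at h; omega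
  have hg2 : orderOf (g * g) = 2 := by
    rw [← pow_two, orderOf_pow, h]
    norm_num
  have hv2 := D.v_involution hg2
  obtain ⟨n, hn⟩ := D.sum_zpowers g
  let f : Fin 4 → Subgroup.zpowers g := fun i => ⟨g ^ (i : ℕ), Subgroup.npow_mem_zpowers g _⟩
  have hf : Function.Bijective f := by
    refine (Nat.bijective_iff_injective_and_card f).2 ⟨fun i j e => ?_, by
      rw [Nat.card_fin, Nat.card_zpowers, h]⟩
    exact Fin.ext (pow_injOn_Iio_orderOf (by simp [h]) (by simp [h]) (congrArg Subtype.val e))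
  rw [← hf.sum_comp (fun k : Subgroup.zpowers g => D.v k), Fin.sum_univ_four, h] at hn
  simp only [f, Fin.val_zero, Fin.val_one, Fin.val_two, pow_zero, pow_one, pow_two,
    show ((3 : Fin 4) : ℕ) = 3 from rfl, D.v_one, hv2] at hn
  rw [show g ^ 3 = g⁻¹ from (inv_eq_of_mul_eq_one_right (by
    rw [← pow_succ', show 3 + 1 = orderOf g by omega, pow_orderOf_eq_one])).symm, D.v_inv] at hn
  push_cast at hn
  have hlt := D.v_lt_two hg h1
  have h0 := D.v_nonneg hg
  have hr := D.rec_eq hg
  rw [hv2] at hr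
  obtain ⟨m, hm⟩ : ∃ m : ℤ, D.v g = (m : ℝ) := ⟨2 * n - D.t, by push_cast; linarith⟩
  have hm0 : 0 ≤ m := by exact_mod_cast hm ▸ h0
  have hm2 : m < 2 := by exact_mod_cast hm ▸ hlt
  have ht : (3 : ℝ) ≤ D.t := by exact_mod_cast D.ht3
  interval_cases m <;> rw [hm] at hr <;> push_cast at hr <;> linarith

/-- The centralizer of an involution. -/
theorem cent_involution {z : G} (hz : orderOf z = 2) :
    Nat.card (Subgroup.centralizer ({z} : Set G)) = 2 * D.t := by
  classical
  have hp : p.Prime := Fact.out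
  have hp7 := D.p_ge
  set C := Subgroup.centralizer ({z} : Set G) with hC
  have hinv : ∀ k : C, k ≠ 1 → D.v k = 0 := by
    intro k hk
    have hkz : Commute (k : G) z := Subgroup.mem_centralizer_singleton_iff.1 k.2
    have hkp : ¬ p ∣ orderOf (k : G) := by
      intro hd
      have hvo := orderOf_pow_orderOf_div (orderOf_pos (k : G)).ne' hd
      have hz' : z ∈ Subgroup.zpowers ((k : G) ^ (orderOf (k : G) / p)) := by
        rw [← (SCP.hyp_of_ord D.hx hvo).cent, Subgroup.mem_centralizer_singleton_iff]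
        exact (hkz.pow_left _).eq.symm
      have h2 := orderOf_dvd_of_mem_zpowers hz'
      rw [hvo, hz] at h2
      have := (Nat.prime_dvd_prime_iff_eq Nat.prime_two hp).1 h2
      omega
    obtain ⟨a, m, hm, he⟩ := Nat.exists_eq_pow_mul_and_not_dvd (orderOf_pos (k : G)).ne' 2 (by norm_num)
    have ho : orderOf ((k : G) ^ 2 ^ a) = m := by
      rw [orderOf_pow, he, Nat.gcd_mul_right_left, Nat.mul_div_cancel_left _ (Nat.two_pow_pos a)]
    have hm1 : m = 1 := by
      by_contra hne
      refine D.no_odd_commute hz (g := (k : G) ^ 2 ^ a) ?_ ?_ ?_ (hkz.pow_left _)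
      · rw [ho]; exact fun hd => hkp (hd.trans ⟨2 ^ a, by rw [he]; ring⟩)
      · exact fun e => hne (by rw [← ho, e, orderOf_one])
      · rw [ho, Nat.odd_iff]
        omega
    rw [hm1, mul_one] at he
    rcases Nat.lt_or_ge a 2 with ha | ha
    · have hk1 : orderOf (k : G) ≠ 1 := fun e => hk (Subtype.ext (orderOf_eq_one_iff.1 e))
      interval_cases a
      · exact absurd (by rw [he, pow_zero]) hk1
      · exact D.v_involution (by rw [he, pow_one])
    · exfalso
      have hd : 4 ∣ orderOf (k : G) := he ▸ pow_dvd_pow 2 ha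
      exact D.no_four (orderOf_pow_orderOf_div (orderOf_pos (k : G)).ne' hd)
  obtain ⟨n, hn⟩ := IsChar.classInner_nat (IsChar.res (IsIrr.isCharacter D.χ.2) C)
    (IsChar.one (G := C))
  rw [classInner, inv_mul_eq_iff_eq_mul₀ (Nat.cast_ne_zero.2 Nat.card_pos.ne')] at hn
  simp only [map_one, mul_one] at hn
  rw [← Finset.add_sum_erase _ _ (Finset.mem_univ (1 : C)), Finset.sum_eq_zero (fun k hk => by
    rw [D.val_eq, hinv k (Finset.ne_of_mem_erase hk), Complex.ofReal_zero]), add_zero,
    OneMemClass.coe_one, D.deg] at hn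
  have hn' : 2 * D.t = Nat.card C * n := by exact_mod_cast hn
  -- the column orthogonality gives more than `t`
  have hcol := Cfsg.Agent.Char.sum_irr_mul_conj z z
  rw [if_pos (IsConj.refl z), ← hC] at hcol
  have hsum : ∑ ψ : IrrCharacter G, Complex.normSq ((ψ : G → ℂ) z) = (Nat.card C : ℝ) := by
    apply Complex.ofReal_injective
    push_cast
    rw [← hcol]
    exact Finset.sum_congr rfl fun ψ _ => (Complex.mul_conj _).symm
  have hzp : ¬ p ∣ orderOf z := fun hd => by
    rw [hz] at hd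
    have := Nat.le_of_dvd two_pos hd
    omega
  have hle := Finset.sum_le_sum_of_subset_of_nonneg
    (f := fun ψ : IrrCharacter G => Complex.normSq ((ψ : G → ℂ) z))
    (Finset.subset_univ (insert (trivialIrr G) D.Y)) fun _ _ _ => Complex.normSq_nonneg _
  rw [hsum, Finset.sum_insert D.triv_not, Finset.sum_congr rfl (g := fun _ => (1 : ℝ))
    (fun θ hθ => by rw [D.vY θ hθ z hzp, D.val_eq, D.v_involution hz]; simp), Finset.sum_const,
    D.hY, nsmul_eq_mul, mul_one] at hle
  have hle' : 1 + D.t ≤ Nat.card C := by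
    have h1 : Complex.normSq ((trivialIrr G : G → ℂ) z) = 1 := by simp [trivialIrr]
    rw [h1] at hle
    exact_mod_cast hle
  rcases Nat.lt_or_ge n 2 with h | h
  · have := D.ht3
    have e : 2 * D.t = Nat.card C * n := hn'
    interval_cases n <;> omega
  · have : Nat.card C * 2 ≤ Nat.card C * n := Nat.mul_le_mul_left _ h
    omega

/-- The order of the group. -/
theorem card_eq : Nat.card G = p * (2 * D.t) * (2 * D.t - 1) := by
  classical
  obtain ⟨S, hS, hSe⟩ := D.exists_self
  have hp7 := D.p_ge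
  have h := Few.class_u hS S.hu S.t
  have ht2 : orderOf S.t = 2 := S.ht
  rw [S.count (by omega), D.cent_involution ht2] at h
  have htp : ¬ p ∣ orderOf S.t := fun hd => by
    rw [ht2] at hd
    have := Nat.le_of_dvd two_pos hd
    omega
  have hF : ∀ ψ : IrrCharacter G, ψ ≠ trivialIrr G → ψ ≠ D.χ → ψ ∉ D.Y → (ψ : G → ℂ) S.u = 0 :=
    fun ψ h1 h2 h3 => D.vanish ψ h1 h2 h3 _ S.hu
  have hY1 : ∑ θ ∈ D.Y, (θ : G → ℂ) S.u = 1 := by
    have hu : (D.x : G) = D.x := rfl
    let D' : Setting G p := { D with x := S.u, hx := hS, he := hSe }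
    exact D'.sum_Y_x
  rw [← Finset.sum_subset (Finset.subset_univ (insert (trivialIrr G) (insert D.χ D.Y)))
      (fun ψ _ hψ => by
        simp only [Finset.mem_insert, not_or] at hψ
        rw [hF ψ hψ.1 hψ.2.1 hψ.2.2, map_zero, zero_mul, zero_mul, zero_div]),
    Finset.sum_insert (by simp [D.triv_ne, D.triv_not]), Finset.sum_insert D.χ_not,
    show (D.χ : G → ℂ) S.t = 0 from D.at_t hS hSe, mul_zero, zero_div, zero_add,
    Finset.sum_congr rfl (g := fun θ : IrrCharacter G => conj ((θ : G → ℂ) S.u) *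
        (1 / (2 * (D.t : ℂ) - 1)))
      (fun θ hθ => by rw [D.vY θ hθ _ htp, D.degY hθ, D.at_t hS hSe]; ring),
    ← Finset.sum_mul, ← map_sum, hY1] at h
  simp only [trivialIrr, map_one, one_mul, mul_one, div_one] at h
  have hq : (2 * (D.t : ℂ) - 1) ≠ 0 := sub_ne_zero.2 (by
    exact_mod_cast (show 2 * D.t ≠ 1 by omega))
  have h2t : (2 * (D.t : ℂ)) ≠ 0 := by
    exact_mod_cast (show 2 * D.t ≠ 0 by have := D.ht3; omega)
  push_cast at h
  field_simp at h
  apply Nat.cast_injective (R := ℂ)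
  rw [Nat.cast_mul, Nat.cast_mul, Nat.cast_sub (by have := D.ht3; omega)]
  push_cast
  refine mul_right_cancel₀ h2t ?_
  linear_combination -h

include D in
theorem perfect : commutator G = ⊤ := by
  classical
  by_contra hne
  obtain ⟨g, hg⟩ : ∃ g, g ∉ commutator G := by
    by_contra hc
    push Not at hc
    exact hne (eq_top_iff.2 fun g _ => hc g)
  have hg1 : Abelianization.of g ≠ 1 := fun e => hg ((QuotientGroup.eq_one_iff g).1 e)
  obtain ⟨l, hl⟩ : ∃ l : Abelianization G →* ℂˣ, l (Abelianization.of g) ≠ 1 := by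
    by_contra hc
    push Not at hc
    exact hg1 (eq_one_of_forall_linear (fun a b => mul_comm a b) hc)
  let ψ : IrrCharacter G := ⟨_, isIrr_linear (l.comp Abelianization.of)⟩
  have h1 : (ψ : G → ℂ) 1 = 1 := by simp [ψ]
  have hne1 : ψ ≠ trivialIrr G := fun e => hl (Units.ext (congrFun (congrArg Subtype.val e) g))
  have hχ : ψ ≠ D.χ := fun e => by
    rw [e, D.deg] at h1
    have h2 : ((2 * D.t : ℕ) : ℂ) = ((1 : ℕ) : ℂ) := by push_cast; exact h1
    have := Nat.cast_injective h2
    omega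
  have hY : ψ ∉ D.Y := fun hψ => by
    rw [D.degY hψ] at h1
    have h2 : ((2 * D.t : ℕ) : ℂ) = ((2 : ℕ) : ℂ) := by push_cast; linear_combination h1
    have := Nat.cast_injective h2
    have := D.ht3
    omega
  exact Units.ne_zero (l.comp Abelianization.of D.x) (D.vanish ψ hne1 hχ hY _ D.hx.ord)

include D in
/-- The theorem. -/
theorem iso : ∃ (m : ℕ) (F : Type) (_ : Field F) (_ : Fintype F), Fintype.card F = 2 ^ m ∧
    p = 2 ^ m + 1 ∧ Nonempty (G ≃* Matrix.SpecialLinearGroup (Fin 2) F) := by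
  classical
  have hp : p.Prime := Fact.out
  have hp7 := D.p_ge
  have hc := D.card_eq
  have ht := D.ht
  obtain ⟨Q, hQ⟩ := SCP.exists_sylow D.hx
  have hQn : ¬ (Q : Subgroup G).Normal := fun hn => by
    have h1 : SCP.N D.x = ⊤ := by
      show Subgroup.normalizer ((SCP.P D.x : Subgroup G) : Set G) = ⊤
      rw [← hQ]
      exact Subgroup.normalizer_eq_top_iff.2 hn
    have h2 := SCP.card_N D.hx
    rw [h1, Subgroup.card_top, hc, D.he, mul_assoc] at h2
    have h3 := Nat.eq_of_mul_eq_mul_left hp.pos h2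
    have h4 : 6 * 5 ≤ 2 * D.t * (2 * D.t - 1) :=
      Nat.mul_le_mul (by have := D.ht3; omega) (by have := D.ht3; omega)
    omega
  have hlt : Nat.card G < p ^ 3 := by
    rw [hc, show p ^ 3 = p * p * p by ring]
    exact Nat.mul_lt_mul_of_lt_of_lt (Nat.mul_lt_mul_of_pos_left (by omega) hp.pos) (by omega)
  have h2 : ∀ N : Subgroup G, N.Normal → Nat.card N ≠ 2 := by
    intro N hN hN2
    obtain ⟨n, hn1, huniv⟩ := (Nat.card_eq_two_iff' (1 : N)).1 hN2
    have hcomm : (D.x : G) * n * (D.x : G)⁻¹ = n := by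
      have hne : (⟨_, hN.conj_mem n n.2 D.x⟩ : N) ≠ 1 := fun e => hn1 (Subtype.ext (by
        simpa [mul_inv_eq_one] using congrArg Subtype.val e))
      exact congrArg Subtype.val (huniv _ hne)
    have hmem : (n : G) ∈ Subgroup.zpowers D.x := by
      rw [← D.hx.cent, Subgroup.mem_centralizer_singleton_iff]
      calc (n : G) * D.x = D.x * (n : G) * D.x⁻¹ * D.x := by rw [hcomm]
        _ = D.x * n := by group
    have ho := SCP.orderOf_of_mem D.hx hmem (fun e => hn1 (Subtype.ext e))
    have h3 := orderOf_dvd_natCard (x := n)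
    rw [hN2, ← Subgroup.orderOf_coe, ho] at h3
    have := Nat.le_of_dvd two_pos h3
    omega
  rcases Cube.perfect_main D.perfect (SCP.dvd_card D.hx) hlt Q hQn h2 with
    ⟨F, _, _, hF, -, ⟨e⟩⟩ | ⟨m, F, i1, i2, hF, hm, -, hiso⟩
  · exfalso
    have hk := Nat.card_congr e.toEquiv
    have hdel : Dickson.del F = 2 := ((Dickson.del_cases F).resolve_left fun h' => by
      obtain ⟨k, hk⟩ := h'.2
      omega).1
    have h5 := Dickson.card_psl (F := F)
    rw [hdel, ← hk, hc, hF, mul_assoc, mul_assoc] at h5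
    have h6 := Nat.eq_of_mul_eq_mul_left hp.pos h5
    rw [show p - 1 = 2 * D.t by omega] at h6
    have h7 := Nat.eq_of_mul_eq_mul_left (show 0 < 2 * D.t by have := D.ht3; omega) h6
    have := D.ht3
    omega
  · exact ⟨m, F, i1, i2, hF, hm, hiso⟩

end Setting

theorem main (hp7 : 7 ≤ p) {x : G} (hx : SCP.Hyp p x) (he : SCP.e x = 2) (χ : IrrCharacter G)
    (hd : charDegree (χ : G → ℂ) + 1 = p)
    (hfaith : ∀ g : G, (χ : G → ℂ) g = (χ : G → ℂ) 1 → g = 1) :
    ∃ (m : ℕ) (F : Type) (_ : Field F) (_ : Fintype F), Fintype.card F = 2 ^ m ∧ p = 2 ^ m + 1 ∧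
      Nonempty (G ≃* Matrix.SpecialLinearGroup (Fin 2) F) :=
  (exists_setting hp7 hx he χ hd hfaith).elim fun D => D.iso

end Cfsg.Agent.Block.PMinusOne
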