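import Mathlib
import Cfsg.Agent.Lib.Fus.SmallSimple

/-!
Primitive rank three groups of degree ten with Sylow 5-normalizer of order ten.
-/

set_option autoImplicit false

namespace Cfsg.Agent.Block.PMinusOne.Ten

open MulAction

universe u v

variable {G : Type u} [Group G] {Ω : Type v} [MulAction G Ω]

theorem orbit_smul (g : G) (x y : Ω) :
    Nat.card (orbit (stabilizer G (g • x)) (g • y)) = Nat.card (orbit (stabilizer G x) y) := by
  rw [Nat.card_coe_set_eq, Nat.card_coe_set_eq,
    ← Set.ncard_image_of_injective (orbit (stabilizer G x) y) (MulAction.injective g)]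
  congr 1
  ext z
  constructor
  · rintro ⟨⟨h, hh⟩, rfl⟩
    refine ⟨(g⁻¹ * h * g) • y, ⟨⟨g⁻¹ * h * g, ?_⟩, rfl⟩, ?_⟩
    · show (g⁻¹ * h * g) • x = x
      rw [mul_smul, mul_smul, show h • g • x = g • x from hh, inv_smul_smul]
    · show g • (g⁻¹ * h * g) • y = h • g • y
      rw [mul_smul, mul_smul, smul_inv_smul]
  · rintro ⟨w, ⟨⟨h, hh⟩, rfl⟩, rfl⟩
    refine ⟨⟨g * h * g⁻¹, ?_⟩, ?_⟩
    · show (g * h * g⁻¹) • g • x = g • x
      rw [mul_smul, mul_smul, inv_smul_smul, show h • x = x from hh]
    · show (g * h * g⁻¹) • g • y = g • h • y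
      rw [mul_smul, mul_smul, inv_smul_smul]

variable [Finite G] [Fintype Ω] [DecidableEq Ω]

theorem orbit_symm [IsPretransitive G Ω] (x y : Ω) :
    Nat.card (orbit (stabilizer G x) y) = Nat.card (orbit (stabilizer G y) x) := by
  have hc : ∀ x y : Ω, Nat.card (orbit (stabilizer G x) y) * Nat.card (stabilizer (stabilizer G x) y) =
      Nat.card (stabilizer G x) := fun x y => by
    rw [← Nat.card_prod, Nat.card_congr (orbitProdStabilizerEquivGroup (stabilizer G x) y)]
  have he : Nat.card (stabilizer (stabilizer G x) y) = Nat.card (stabilizer (stabilizer G y) x) :=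
    Nat.card_congr
      { toFun := fun g => ⟨⟨g.1.1, g.2⟩, g.1.2⟩
        invFun := fun g => ⟨⟨g.1.1, g.2⟩, g.1.2⟩
        left_inv := fun _ => rfl
        right_inv := fun _ => rfl }
  obtain ⟨g, rfl⟩ := exists_smul_eq G x y
  have hs : Nat.card (stabilizer G (g • x)) = Nat.card (stabilizer G x) := by
    rw [stabilizer_smul_eq_stabilizer_map_conj]
    exact (Nat.card_congr ((stabilizer G x).equivMapOfInjective _ (MulAut.conj g).injective).toEquiv).symm
  have h1 := hc x (g • x)
  have h2 := hc (g • x) x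
  rw [hs, ← h1, ← he] at h2
  exact (Nat.eq_of_mul_eq_mul_right Nat.card_pos h2).symm

open Classical in
/-- The points at which the stabilizer of `x` has an orbit of length three. -/
noncomputable def nb (G : Type u) [Group G] {Ω : Type v} [MulAction G Ω] [Fintype Ω] (x : Ω) :
    Finset Ω :=
  Finset.univ.filter fun y => Nat.card (orbit (stabilizer G x) y) = 3

theorem mem_nb {x y : Ω} : y ∈ nb G x ↔ Nat.card (orbit (stabilizer G x) y) = 3 := by
  classical
  unfold nb
  exact Finset.mem_filter.trans (and_iff_right (Finset.mem_univ y))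

theorem smul_mem_nb {g : G} {x y : Ω} : g • y ∈ nb G (g • x) ↔ y ∈ nb G x := by
  simp only [mem_nb, orbit_smul]

theorem not_self {x : Ω} : x ∉ nb G x := fun h => by
  rw [mem_nb] at h
  have hx : orbit (stabilizer G x) x = {x} := Set.eq_singleton_iff_unique_mem.2
    ⟨mem_orbit_self x, by rintro _ ⟨⟨h, hh⟩, rfl⟩; exact hh⟩
  rw [hx, Nat.card_unique] at h
  norm_num at h

theorem symm [IsPretransitive G Ω] {x y : Ω} (h : y ∈ nb G x) : x ∈ nb G y := by
  rw [mem_nb] at h ⊢
  rw [← orbit_symm]
  exact h

/-- The two non-trivial suborbits. -/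
theorem shape (hΩ : Fintype.card Ω = 10) (x : Ω)
    (hrank : Nat.card (orbitRel.Quotient (stabilizer G x) Ω) = 3)
    (hsub : ∀ y : Ω, y ≠ x → Nat.card (orbit (stabilizer G x) y) = 3 ∨
      Nat.card (orbit (stabilizer G x) y) = 6) :
    (nb G x).card = 3 ∧
    (∀ y ∈ nb G x, ∀ z ∈ nb G x, ∃ g : G, g • x = x ∧ g • y = z) ∧
    (∀ y z : Ω, y ≠ x → y ∉ nb G x → z ≠ x → z ∉ nb G x → ∃ g : G, g • x = x ∧ g • y = z) ∧
    ((Finset.univ.erase x) \ nb G x).card = 6 := by
  classical
  haveI : Fintype (orbitRel.Quotient (stabilizer G x) Ω) := Fintype.ofFinite _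
  let π : Ω → orbitRel.Quotient (stabilizer G x) Ω := Quotient.mk''
  have hfib : ∀ y : Ω, Finset.univ.filter (fun z => π z = π y) =
      Finset.univ.filter fun z => z ∈ orbit (stabilizer G x) y := fun y =>
    Finset.filter_congr fun z _ => Quotient.eq''
  have hfc : ∀ y : Ω, (Finset.univ.filter fun z => π z = π y).card =
      Nat.card (orbit (stabilizer G x) y) := fun y => by
    rw [hfib, Nat.card_coe_set_eq, ← Set.ncard_coe_finset]
    congr 1
    ext z
    simp
  have hself : (Finset.univ.filter fun z => π z = π x).card = 1 := by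
    rw [hfc, show orbit (stabilizer G x) x = {x} from Set.eq_singleton_iff_unique_mem.2
      ⟨mem_orbit_self x, by rintro _ ⟨⟨h, hh⟩, rfl⟩; exact hh⟩, Nat.card_unique]
  have hQ : ((Finset.univ : Finset (orbitRel.Quotient (stabilizer G x) Ω)).erase (π x)).card = 2 := by
    rw [Finset.card_erase_of_mem (Finset.mem_univ _), Finset.card_univ, ← Nat.card_eq_fintype_card,
      hrank]
  obtain ⟨q₁, q₂, hne, hq⟩ := Finset.card_eq_two.1 hQ
  obtain ⟨y₁, rfl⟩ := Quotient.mk''_surjective q₁
  obtain ⟨y₂, rfl⟩ := Quotient.mk''_surjective q₂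
  have hy₁ : y₁ ≠ x := fun e => by
    have h : π y₁ ∈ Finset.univ.erase (π x) := hq ▸ Finset.mem_insert_self _ _
    exact Finset.ne_of_mem_erase h (by rw [e])
  have hy₂ : y₂ ≠ x := fun e => by
    have h : π y₂ ∈ Finset.univ.erase (π x) :=
      hq ▸ Finset.mem_insert_of_mem (Finset.mem_singleton_self _)
    exact Finset.ne_of_mem_erase h (by rw [e])
  have hsum := Finset.card_eq_sum_card_fiberwise (f := π) (s := (Finset.univ : Finset Ω))
    (t := Finset.univ) (fun z _ => Finset.mem_univ _)
  rw [Finset.card_univ, hΩ, ← Finset.add_sum_erase _ _ (Finset.mem_univ (π x)), hself, hq,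
    Finset.sum_pair hne, hfc, hfc] at hsum
  wlog h3 : Nat.card (orbit (stabilizer G x) y₁) = 3 generalizing y₁ y₂
  · refine this y₂ y₁ (Ne.symm hne) (by rw [hq]; exact Finset.pair_comm _ _) hy₂ hy₁
      (by rw [hsum]; ring) ?_
    rcases hsub y₁ hy₁ with h1 | h1 <;> rcases hsub y₂ hy₂ with h2 | h2 <;> omega
  have h6 : Nat.card (orbit (stabilizer G x) y₂) = 6 := by omega
  have hcases : ∀ z : Ω, z ≠ x → π z = π y₁ ∨ π z = π y₂ := by
    intro z hz
    have h : π z ∈ Finset.univ.erase (π x) := by
      refine Finset.mem_erase.2 ⟨fun e => hz ?_, Finset.mem_univ _⟩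
      obtain ⟨⟨g, hg⟩, e'⟩ := Quotient.eq''.1 e
      exact e'.symm.trans hg
    rw [hq, Finset.mem_insert, Finset.mem_singleton] at h
    exact h
  have hcard : ∀ z w : Ω, π z = π w →
      Nat.card (orbit (stabilizer G x) z) = Nat.card (orbit (stabilizer G x) w) := fun z w e => by
    rw [orbit_eq_iff.2 (Quotient.eq''.1 e)]
  have hnb : nb G x = Finset.univ.filter fun z => π z = π y₁ := by
    ext z
    simp only [mem_nb, Finset.mem_filter, Finset.mem_univ, true_and]
    refine ⟨fun h => ?_, fun e => (hcard z y₁ e).trans h3⟩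
    by_cases hz : z = x
    · exact absurd (mem_nb.2 h) (hz ▸ not_self)
    · exact (hcases z hz).resolve_right fun e => by rw [hcard z y₂ e, h6] at h; omega
  refine ⟨by rw [hnb, hfc, h3], fun y hy z hz => ?_, fun y z hy hy' hz hz' => ?_, ?_⟩
  · rw [hnb, Finset.mem_filter] at hy hz
    obtain ⟨⟨g, hg⟩, e⟩ := Quotient.eq''.1 (hz.2.trans hy.2.symm)
    exact ⟨g, hg, e⟩
  · have e1 : π y = π y₂ := (hcases y hy).resolve_left fun e => hy' (by
      rw [hnb]; exact Finset.mem_filter.2 ⟨Finset.mem_univ _, e⟩)
    have e2 : π z = π y₂ := (hcases z hz).resolve_left fun e => hz' (by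
      rw [hnb]; exact Finset.mem_filter.2 ⟨Finset.mem_univ _, e⟩)
    obtain ⟨⟨g, hg⟩, e⟩ := Quotient.eq''.1 (e2.trans e1.symm)
    exact ⟨g, hg, e⟩
  · rw [Finset.card_sdiff_of_subset (fun z hz => Finset.mem_erase.2
        ⟨fun e => not_self (G := G) (e ▸ hz), Finset.mem_univ z⟩),
      Finset.card_erase_of_mem (Finset.mem_univ _), Finset.card_univ, hΩ, hnb, hfc, h3]

/-- The stabilizer of a point has order at most twelve. -/
theorem card_stab_le [IsPretransitive G Ω] [FaithfulSMul G Ω] (hΩ : Fintype.card Ω = 10)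
    (hrank : ∀ x : Ω, Nat.card (orbitRel.Quotient (stabilizer G x) Ω) = 3)
    (hsub : ∀ x y : Ω, y ≠ x → Nat.card (orbit (stabilizer G x) y) = 3 ∨
      Nat.card (orbit (stabilizer G x) y) = 6) (a : Ω) :
    Nat.card (stabilizer G a) ≤ 12 := by
  classical
  have hd := fun x : Ω => (shape (G := G) hΩ x (hrank x) (hsub x)).1
  have hinv : ∀ (g : G) (x y : Ω), (nb G (g • x) ∩ nb G (g • y)).card = (nb G x ∩ nb G y).card := by
    intro g x y
    rw [← Finset.card_image_of_injective (nb G x ∩ nb G y) (MulAction.injective g)]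
    congr 1
    ext z
    obtain ⟨w, rfl⟩ : ∃ w, g • w = z := ⟨g⁻¹ • z, smul_inv_smul g z⟩
    simp [smul_mem_nb, (MulAction.injective g).eq_iff]
  -- the two parameters
  have hpar : ∀ x : Ω, ∃ l m : ℕ, (∀ y ∈ nb G x, (nb G x ∩ nb G y).card = l) ∧
      (∀ z, z ≠ x → z ∉ nb G x → (nb G x ∩ nb G z).card = m) ∧
      (l = 0 ∧ m = 1 ∨ l = 2 ∧ m = 0) := by
    intro x
    obtain ⟨h3, ht1, ht2, h6⟩ := shape (G := G) hΩ x (hrank x) (hsub x)
    obtain ⟨y₀, hy₀⟩ := Finset.card_pos.1 (show 0 < (nb G x).card by omega)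
    obtain ⟨z₀, hz₀⟩ := Finset.card_pos.1 (show 0 < ((Finset.univ.erase x) \ nb G x).card by omega)
    rw [Finset.mem_sdiff, Finset.mem_erase] at hz₀
    refine ⟨(nb G x ∩ nb G y₀).card, (nb G x ∩ nb G z₀).card, fun y hy => ?_, fun z hz hz' => ?_, ?_⟩
    · obtain ⟨g, hgx, hgy⟩ := ht1 y₀ hy₀ y hy
      rw [← hgy]
      conv_lhs => rw [← hgx, hinv]
    · obtain ⟨g, hgx, hgz⟩ := ht2 z₀ z hz₀.1.1 hz₀.2 hz hz'
      rw [← hgz]
      conv_lhs => rw [← hgx, hinv]
    · set S := (Finset.univ.erase x) \ nb G x with hS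
      have hcount := Finset.sum_card_bipartiteAbove_eq_sum_card_bipartiteBelow
        (s := nb G x) (t := S) (fun y z => z ∈ nb G y)
      have hA : ∀ y ∈ nb G x, (S.filter fun z => z ∈ nb G y).card +
          ((nb G x ∩ nb G y₀).card + 1) = 3 := by
        intro y hy
        have hl : (nb G x ∩ nb G y).card = (nb G x ∩ nb G y₀).card := by
          obtain ⟨g, hgx, hgy⟩ := ht1 y₀ hy₀ y hy
          rw [← hgy]
          conv_lhs => rw [← hgx, hinv]
        have hsplit : S.filter (fun z => z ∈ nb G y) = (nb G y).erase x \ nb G x := by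
          ext z; simp [hS]; tauto
        have hint : (nb G y).erase x ∩ nb G x = nb G x ∩ nb G y := by
          ext z
          simp only [Finset.mem_inter, Finset.mem_erase]
          exact ⟨fun h => ⟨h.2, h.1.2⟩, fun h => ⟨⟨fun e => not_self (G := G) (e ▸ h.1), h.2⟩, h.1⟩⟩
        have h := Finset.card_sdiff_add_card_inter ((nb G y).erase x) (nb G x)
        rw [hint, hl, Finset.card_erase_of_mem (symm hy), hd y, ← hsplit] at h
        omega
      have hB : ∀ z ∈ S, ((nb G x).filter fun y => z ∈ nb G y).card = (nb G x ∩ nb G z₀).card := by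
        intro z hz
        rw [hS, Finset.mem_sdiff, Finset.mem_erase] at hz
        obtain ⟨g, hgx, hgz⟩ := ht2 z₀ z hz₀.1.1 hz₀.2 hz.1.1 hz.2
        rw [← hinv g x z₀, hgx, hgz]
        congr 1
        ext w
        simp only [Finset.mem_filter, Finset.mem_inter, and_congr_right_iff]
        exact fun _ => ⟨symm, symm⟩
      simp only [Finset.bipartiteAbove, Finset.bipartiteBelow] at hcount
      rw [Finset.sum_congr rfl (g := fun _ => 3 - ((nb G x ∩ nb G y₀).card + 1))
          (fun y hy => Nat.eq_sub_of_add_eq (hA y hy)), Finset.sum_const, h3,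
        Finset.sum_congr rfl (g := fun _ => (nb G x ∩ nb G z₀).card) hB, Finset.sum_const, h6,
        smul_eq_mul, smul_eq_mul] at hcount
      have := hA y₀ hy₀
      omega
  obtain ⟨l, m, hl, hm, hlm⟩ := hpar a
  -- the parameters do not depend on the point
  have hl' : ∀ x : Ω, ∀ y ∈ nb G x, (nb G x ∩ nb G y).card = l := by
    intro x y hy
    obtain ⟨g, rfl⟩ := exists_smul_eq G a x
    obtain ⟨w, rfl⟩ : ∃ w, g • w = y := ⟨g⁻¹ • y, smul_inv_smul g y⟩
    rw [hinv]; exact hl w (smul_mem_nb.1 hy)
  have hm' : ∀ x z : Ω, z ≠ x → z ∉ nb G x → (nb G x ∩ nb G z).card = m := by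
    intro x z h1 h2
    obtain ⟨g, rfl⟩ := exists_smul_eq G a x
    obtain ⟨w, rfl⟩ : ∃ w, g • w = z := ⟨g⁻¹ • z, smul_inv_smul g z⟩
    rw [hinv]; exact hm w (fun e => h1 (e ▸ rfl)) (fun e => h2 (smul_mem_nb.2 e))
  rcases hlm with ⟨rfl, rfl⟩ | ⟨rfl, rfl⟩
  swap
  · -- three disjoint quadruples
    exfalso
    have hclosed : ∀ x : Ω, ∀ y ∈ nb G x, insert y (nb G y) = insert x (nb G x) := by
      intro x y hy
      refine Finset.eq_of_subset_of_card_le (fun z hz => ?_)
        (by rw [Finset.card_insert_of_notMem not_self, Finset.card_insert_of_notMem not_self, hd, hd])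
      rw [Finset.mem_insert] at hz ⊢
      rcases hz with rfl | hz
      · exact Or.inr hy
      by_contra hc
      push Not at hc
      have h2 := hl' x y hy
      have hsub' : insert z (insert x (nb G x ∩ nb G y)) ⊆ nb G y := by
        intro w hw
        simp only [Finset.mem_insert, Finset.mem_inter] at hw
        rcases hw with rfl | rfl | hw
        · exact hz
        · exact symm hy
        · exact hw.2
      have h3 := Finset.card_le_card hsub'
      rw [Finset.card_insert_of_notMem (by simp [hc.1, hc.2]),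
        Finset.card_insert_of_notMem (by simp [not_self]), h2, hd] at h3
      omega
    have hdisj : ∀ x z : Ω, z ∉ insert x (nb G x) → Disjoint (insert z (nb G z)) (insert x (nb G x)) := by
      intro x z hz
      rw [Finset.disjoint_left]
      intro w hw hw'
      refine hz ?_
      have e1 : insert w (nb G w) = insert z (nb G z) := by
        rcases Finset.mem_insert.1 hw with rfl | h
        · rfl
        · exact hclosed z w h
      have e2 : insert w (nb G w) = insert x (nb G x) := by
        rcases Finset.mem_insert.1 hw' with rfl | h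
        · rfl
        · exact hclosed x w h
      rw [← e2, e1]
      exact Finset.mem_insert_self _ _
    have hc4 : ∀ x : Ω, (insert x (nb G x)).card = 4 := fun x => by
      rw [Finset.card_insert_of_notMem not_self, hd]
    obtain ⟨c, hc⟩ : ∃ c, c ∉ insert a (nb G a) := by
      by_contra h
      push Not at h
      have := Finset.card_le_card (show (Finset.univ : Finset Ω) ⊆ _ from fun w _ => h w)
      rw [Finset.card_univ, hΩ, hc4] at this
      omega
    obtain ⟨d, hd'⟩ : ∃ d, d ∉ insert a (nb G a) ∪ insert c (nb G c) := by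
      by_contra h
      push Not at h
      have := Finset.card_le_card (show (Finset.univ : Finset Ω) ⊆ _ from fun w _ => h w)
      rw [Finset.card_univ, hΩ, Finset.card_union_of_disjoint (hdisj a c hc).symm, hc4, hc4] at this
      omega
    rw [Finset.mem_union, not_or] at hd'
    have h12 := Finset.card_le_univ ((insert a (nb G a) ∪ insert c (nb G c)) ∪ insert d (nb G d))
    rw [Finset.card_union_of_disjoint (Finset.disjoint_union_left.2
      ⟨(hdisj a d hd'.1).symm, (hdisj c d hd'.2).symm⟩),
      Finset.card_union_of_disjoint (hdisj a c hc).symm, hc4, hc4, hc4, hΩ] at h12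
    omega
  obtain ⟨b, hb⟩ := Finset.card_pos.1 (show 0 < (nb G a).card by rw [hd]; omega)
  have h2 : ∀ d ∈ nb G a, ((nb G d).erase a).card = 2 := fun d hd' => by
    rw [Finset.card_erase_of_mem (symm hd'), hd]
  obtain ⟨b₁, hb₁⟩ := Finset.card_pos.1 (show 0 < ((nb G b).erase a).card by rw [h2 b hb]; omega)
  -- an element fixing `a`, its neighbours and `b₁` is trivial
  have hfix : ∀ g : G, g • a = a → (∀ d ∈ nb G a, g • d = d) → g • b₁ = b₁ → g = 1 := by
    intro g ga gd gb
    obtain ⟨hb₁a, hb₁b⟩ := Finset.mem_erase.1 hb₁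
    have hb₁far : b₁ ∉ nb G a := fun h => by
      have := hl' a b hb
      rw [Finset.card_eq_zero] at this
      exact Finset.notMem_empty b₁ (this ▸ Finset.mem_inter.2 ⟨h, hb₁b⟩)
    have hother : ∀ d ∈ nb G a, ∃ e ∈ (nb G d).erase a, g • e = e := by
      intro d hd'
      by_cases hdb : d = b
      · exact ⟨b₁, hdb ▸ hb₁, gb⟩
      have hdb₁ : d ∉ nb G b₁ := fun h => by
        have h1 := hm' a b₁ hb₁a hb₁far
        have h3 := Finset.card_le_card (show ({b, d} : Finset Ω) ⊆ nb G a ∩ nb G b₁ by
          intro w hw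
          simp only [Finset.mem_insert, Finset.mem_singleton] at hw
          rcases hw with rfl | rfl
          · exact Finset.mem_inter.2 ⟨hb, symm hb₁b⟩
          · exact Finset.mem_inter.2 ⟨hd', h⟩)
        rw [Finset.card_pair (Ne.symm hdb)] at h3
        omega
      have hne : d ≠ b₁ := fun e => hb₁far (e ▸ hd')
      obtain ⟨e, he⟩ := Finset.card_eq_one.1 (hm' b₁ d hne hdb₁)
      have hemem : e ∈ nb G b₁ ∩ nb G d := he ▸ Finset.mem_singleton_self e
      refine ⟨e, Finset.mem_erase.2 ⟨fun ea => hb₁far ?_, (Finset.mem_inter.1 hemem).2⟩, ?_⟩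
      · exact symm (ea ▸ (Finset.mem_inter.1 hemem).1)
      · have h1 : g • e ∈ nb G b₁ ∩ nb G d := by
          rw [Finset.mem_inter] at hemem ⊢
          exact ⟨gb ▸ smul_mem_nb.2 hemem.1, gd d hd' ▸ smul_mem_nb.2 hemem.2⟩
        rw [he, Finset.mem_singleton] at h1
        exact h1
    refine FaithfulSMul.eq_of_smul_eq_smul (α := Ω) fun w => ?_
    rw [one_smul]
    by_cases hwa : w = a
    · rw [hwa, ga]
    by_cases hwn : w ∈ nb G a
    · exact gd w hwn
    obtain ⟨d, hd'⟩ := Finset.card_eq_one.1 (hm' a w hwa hwn)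
    have hdm : d ∈ nb G a ∩ nb G w := hd' ▸ Finset.mem_singleton_self d
    rw [Finset.mem_inter] at hdm
    obtain ⟨e, he, hge⟩ := hother d hdm.1
    have hw : w ∈ (nb G d).erase a := Finset.mem_erase.2 ⟨hwa, symm hdm.2⟩
    by_contra hne
    have hgw : g • w ∈ (nb G d).erase a := Finset.mem_erase.2
      ⟨fun e' => hwa (smul_left_cancel g (e'.trans ga.symm)),
        gd d hdm.1 ▸ smul_mem_nb.2 (symm hdm.2)⟩
    have h3 := Finset.card_le_card (show ({e, w, g • w} : Finset Ω) ⊆ (nb G d).erase a by
      intro v hv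
      simp only [Finset.mem_insert, Finset.mem_singleton] at hv
      rcases hv with rfl | rfl | rfl <;> assumption)
    rw [Finset.card_eq_three.2 ⟨e, w, g • w, fun e' => hne (e' ▸ hge),
      fun e' => hne (by
        have h4 : e = w := smul_left_cancel g (hge.trans e')
        rw [← h4]; exact hge), Ne.symm hne, rfl⟩, h2 d hdm.1] at h3
    omega
  haveI : Fintype (stabilizer G a) := Fintype.ofFinite _
  have hmap : ∀ g : stabilizer G a, ∀ d : nb G a, (g : G) • (d : Ω) ∈ nb G a := fun g d => by
    have h := (smul_mem_nb (g := (g : G))).2 d.2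
    rwa [show (g : G) • a = a from g.2] at h
  let f : stabilizer G a → (Σ _ : nb G a ↪ nb G a, Ω) := fun g =>
    ⟨⟨fun d => ⟨(g : G) • (d : Ω), hmap g d⟩,
      fun d d' e => Subtype.ext (smul_left_cancel (g : G) (congrArg Subtype.val e))⟩, (g : G) • b₁⟩
  have hinj : Function.Injective f := by
    intro g h e
    rw [Sigma.mk.injEq] at e
    obtain ⟨e1, e2⟩ := e
    rw [heq_eq_eq] at e2
    have h1 := hfix ((h : G)⁻¹ * g) (by rw [mul_smul, show (g : G) • a = a from g.2,
      inv_smul_eq_iff, show (h : G) • a = a from h.2]) (fun d hd' => ?_) ?_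
    · exact Subtype.ext (inv_mul_eq_one.1 h1).symm
    · rw [mul_smul, inv_smul_eq_iff]
      exact congrArg Subtype.val (DFunLike.congr_fun e1 ⟨d, hd'⟩)
    · rw [mul_smul, inv_smul_eq_iff]
      exact e2
  have himg : Finset.univ.image f ⊆
      (Finset.univ : Finset (nb G a ↪ nb G a)).sigma fun σ => (nb G (σ ⟨b, hb⟩ : Ω)).erase a := by
    intro s hs
    obtain ⟨g, -, rfl⟩ := Finset.mem_image.1 hs
    refine Finset.mem_sigma.2 ⟨Finset.mem_univ _, Finset.mem_erase.2 ⟨?_, ?_⟩⟩
    · exact fun e => (Finset.mem_erase.1 hb₁).1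
        (smul_left_cancel (g : G) (e.trans g.2.symm))
    · exact smul_mem_nb.2 (Finset.mem_erase.1 hb₁).2
  have h := Finset.card_le_card himg
  rw [Finset.card_image_of_injective _ hinj, Finset.card_univ, ← Nat.card_eq_fintype_card,
    Finset.card_sigma, Finset.sum_congr rfl (g := fun _ => 2) (fun σ _ => h2 _ (σ ⟨b, hb⟩).2),
    Finset.sum_const, Finset.card_univ, Fintype.card_embedding_eq, Fintype.card_coe, hd] at h
  simpa using h

/-- The group is the alternating group of degree five. -/
theorem iso_alt_five [IsPreprimitive G Ω] [FaithfulSMul G Ω] (hΩ : Fintype.card Ω = 10)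
    (hrank : ∀ x : Ω, Nat.card (orbitRel.Quotient (stabilizer G x) Ω) = 3)
    (hsub : ∀ x y : Ω, y ≠ x → Nat.card (orbit (stabilizer G x) y) = 3 ∨
      Nat.card (orbit (stabilizer G x) y) = 6) [Fact (Nat.Prime 5)] (P : Sylow 5 G)
    (hN : Nat.card (Subgroup.normalizer ((P : Subgroup G) : Set G)) = 10) :
    Nonempty (G ≃* alternatingGroup (Fin 5)) := by
  classical
  obtain ⟨a⟩ : Nonempty Ω := Fintype.card_pos_iff.1 (by omega)
  have hle := card_stab_le (G := G) hΩ hrank hsub a
  have hG := (stabilizer G a).card_mul_index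
  rw [index_stabilizer_of_transitive, Nat.card_eq_fintype_card (α := Ω), hΩ] at hG
  have hn : Nat.card (Sylow 5 G) = Nat.card (stabilizer G a) := by
    have h := Subgroup.card_mul_index (Subgroup.normalizer ((P : Subgroup G) : Set G))
    rw [show (Subgroup.normalizer ((P : Subgroup G) : Set G)).index = Nat.card (Sylow 5 G) from
      P.card_eq_index_normalizer.symm, hN] at h
    omega
  have hmod : Nat.card (Sylow 5 G) % 5 = 1 := Eq.trans (card_sylow_modEq_one 5 G) (by norm_num)
  have h6 : 6 ∣ Nat.card (stabilizer G a) := by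
    obtain ⟨h3, -, -, h6⟩ := shape (G := G) hΩ a (hrank a) (hsub a)
    obtain ⟨z, hz⟩ := Finset.card_pos.1 (show 0 < ((Finset.univ.erase a) \ nb G a).card by omega)
    rw [Finset.mem_sdiff, Finset.mem_erase] at hz
    have h := (hsub a z hz.1.1).resolve_left fun h => hz.2 (mem_nb.2 h)
    rw [← h, ← Nat.card_congr (orbitProdStabilizerEquivGroup (stabilizer G a) z), Nat.card_prod]
    exact dvd_mul_right _ _
  have hS : Nat.card (stabilizer G a) = 6 := by
    obtain ⟨k, hk⟩ := h6
    have := Nat.card_pos (α := stabilizer G a)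
    omega
  have h60 : Nat.card G = 60 := by rw [← hG, hS]
  rw [hS] at hn
  haveI : Nontrivial G := Finite.one_lt_card_iff_nontrivial.1 (by omega)
  suffices hs : IsSimpleGroup G from Fus.alternating_five_of_card h60
  refine ⟨fun H hH => ?_⟩
  by_contra hc
  push Not at hc
  obtain ⟨hH1, hH2⟩ := hc
  haveI := hH
  haveI : IsPretransitive H Ω := IsQuasiPreprimitive.isPretransitive_of_normal fun hfix => hH1
    ((Subgroup.eq_bot_iff_forall H).2 fun h hh => FaithfulSMul.eq_of_smul_eq_smul (α := Ω) fun x => by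
      have h1 : x ∈ fixedPoints H Ω := hfix ▸ Set.mem_univ x
      rw [one_smul]
      exact h1 ⟨h, hh⟩)
  have h10 : 10 ∣ Nat.card H := by
    rw [← hΩ, ← Nat.card_eq_fintype_card, ← index_stabilizer_of_transitive H a]
    exact Subgroup.index_dvd_card _
  have hlt : Nat.card H < 60 := h60 ▸ lt_of_le_of_ne H.card_le_card_group
    fun e => hH2 (Subgroup.eq_top_of_card_eq H e)
  have hd60 : Nat.card H ∣ 60 := h60 ▸ Subgroup.card_subgroup_dvd_card H
  haveI : Fintype G := Fintype.ofFinite G
  -- all Sylow 5-subgroups lie in `H`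
  have hall : ∀ Q : Sylow 5 G, (Q : Subgroup G) ≤ H := by
    intro Q
    obtain ⟨R⟩ : Nonempty (Sylow 5 H) := inferInstance
    obtain ⟨S, hS'⟩ := (R.isPGroup'.map H.subtype).exists_le_sylow
    have hSc : ∀ S : Sylow 5 G, Nat.card (S : Subgroup G) = 5 := fun S => by
      rw [S.card_eq_multiplicity, h60, show (60 : ℕ) = 5 * 12 by norm_num,
        Nat.factorization_mul (by norm_num) (by norm_num), Finsupp.add_apply,
        Nat.Prime.factorization_self (by norm_num),
        Nat.factorization_eq_zero_of_not_dvd (by norm_num : ¬ 5 ∣ 12)]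
      norm_num
    have h5H : 5 ∣ Nat.card H := (by norm_num : 5 ∣ 10).trans h10
    have hR : 5 ∣ Nat.card (R : Subgroup H) := R.dvd_card_of_dvd_card h5H
    have heq : (R : Subgroup H).map H.subtype = S := Subgroup.eq_of_le_of_card_ge hS' (by
      rw [hSc, ← Nat.card_congr ((R : Subgroup H).equivMapOfInjective _ H.subtype_injective).toEquiv]
      exact Nat.le_of_dvd Nat.card_pos hR)
    obtain ⟨g, rfl⟩ := MulAction.exists_smul_eq G S Q
    intro x hx
    rw [Sylow.coe_subgroup_smul] at hx
    obtain ⟨y, hy, rfl⟩ := hx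
    exact hH.conj_mem y (Subgroup.map_subtype_le _ (heq ▸ hy)) g
  have h25 : 5 * 6 ≤ Nat.card H + 5 := by
    -- the six subgroups of order five meet trivially
    have hSc : ∀ S : Sylow 5 G, Nat.card (S : Subgroup G) = 5 := fun S => by
      rw [S.card_eq_multiplicity, h60, show (60 : ℕ) = 5 * 12 by norm_num,
        Nat.factorization_mul (by norm_num) (by norm_num), Finsupp.add_apply,
        Nat.Prime.factorization_self (by norm_num),
        Nat.factorization_eq_zero_of_not_dvd (by norm_num : ¬ 5 ∣ 12)]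
      norm_num
    let h : (Σ S : Sylow 5 G, {x : (S : Subgroup G) // x ≠ 1}) → {x : H // x ≠ 1} := fun s =>
      ⟨⟨s.2.1.1, hall s.1 s.2.1.2⟩, fun e => s.2.2 (Subtype.ext (congrArg (fun y : H => (y : G)) e))⟩
    have hinj : Function.Injective h := by
      rintro ⟨S, x, hx⟩ ⟨T, y, hy⟩ e
      have exy : (x : G) = y := congrArg (fun z : {x : H // x ≠ 1} => ((z : H) : G)) e
      have hST : S = T := by
        refine Sylow.ext ?_
        have key : ∀ (S : Sylow 5 G) (x : (S : Subgroup G)), x ≠ 1 →
            Subgroup.zpowers (x : G) = S := fun S x hx => by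
          refine Subgroup.eq_of_le_of_card_ge (Subgroup.zpowers_le.2 x.2) ?_
          rw [hSc, Nat.card_zpowers, Subgroup.orderOf_coe,
            orderOf_eq_prime (p := 5) ?_ hx]
          have := pow_card_eq_one' (x := x)
          rwa [hSc S] at this
        rw [← key S x hx, exy, key T y hy]
      subst hST
      obtain rfl : x = y := Subtype.ext exy
      rfl
    have hle' := Nat.card_le_card_of_injective h hinj
    have hne : ∀ {X : Type u} [Group X] [Finite X], Nat.card {x : X // x ≠ 1} = Nat.card X - 1 := by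
      intro X _ _
      haveI := Fintype.ofFinite X
      rw [Nat.card_eq_fintype_card, Fintype.card_subtype_compl, Fintype.card_subtype_eq,
        Nat.card_eq_fintype_card]
    haveI : Fintype (Sylow 5 G) := Fintype.ofFinite _
    rw [Nat.card_sigma, hne, Finset.sum_congr rfl (g := fun _ => 4) (fun S _ => by
        rw [hne, hSc]), Finset.sum_const, Finset.card_univ, ← Nat.card_eq_fintype_card, hn,
      smul_eq_mul] at hle'
    have := Nat.card_pos (α := H)
    omega
  have hH30 : Nat.card H = 30 := by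
    obtain ⟨k, hk⟩ := h10
    obtain ⟨j, hj⟩ := hd60
    have hk6 : k < 6 := by omega
    rw [hk] at hj
    interval_cases k <;> omega
  -- a group of order thirty with six subgroups of order five has a normal subgroup of order three
  haveI : Fact (Nat.Prime 3) := ⟨Nat.prime_three⟩
  obtain ⟨T⟩ : Nonempty (Sylow 3 H) := inferInstance
  have hTc : Nat.card (T : Subgroup H) = 3 := by
    rw [T.card_eq_multiplicity, hH30, show (30 : ℕ) = 3 * 10 by norm_num,
      Nat.factorization_mul (by norm_num) (by norm_num), Finsupp.add_apply,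
      Nat.Prime.factorization_self (by norm_num),
      Nat.factorization_eq_zero_of_not_dvd (by norm_num : ¬ 3 ∣ 10)]
    norm_num
  have hT1 : Nat.card (Sylow 3 H) = 1 := by
    have hi : (T : Subgroup H).index = 10 := by
      have h1 := Subgroup.card_mul_index (T : Subgroup H)
      rw [hTc, hH30] at h1
      omega
    have hd : Nat.card (Sylow 3 H) ∣ 10 := hi ▸ T.card_dvd_index
    have hm3 : Nat.card (Sylow 3 H) % 3 = 1 := Eq.trans (card_sylow_modEq_one 3 H) (by norm_num)
    by_contra hne
    have h10' : Nat.card (Sylow 3 H) = 10 := by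
      have := Nat.le_of_dvd (by norm_num) hd
      interval_cases Nat.card (Sylow 3 H) <;> omega
    -- count elements: twenty of order three and twenty-four of order five
    have hS3 : ∀ S : Sylow 3 H, Nat.card (S : Subgroup H) = 3 := fun S =>
      S.card_eq_multiplicity.trans (T.card_eq_multiplicity.symm.trans hTc)
    have hSc : ∀ S : Sylow 5 G, Nat.card (S : Subgroup G) = 5 := fun S => by
      rw [S.card_eq_multiplicity, h60, show (60 : ℕ) = 5 * 12 by norm_num,
        Nat.factorization_mul (by norm_num) (by norm_num), Finsupp.add_apply,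
        Nat.Prime.factorization_self (by norm_num),
        Nat.factorization_eq_zero_of_not_dvd (by norm_num : ¬ 5 ∣ 12)]
      norm_num
    let h : (Σ S : Sylow 5 G, {x : (S : Subgroup G) // x ≠ 1}) ⊕
        (Σ S : Sylow 3 H, {x : (S : Subgroup H) // x ≠ 1}) → H := fun s => match s with
      | Sum.inl s => ⟨s.2.1.1, hall s.1 s.2.1.2⟩
      | Sum.inr s => s.2.1.1
    have ho5 : ∀ (S : Sylow 5 G) (x : (S : Subgroup G)), x ≠ 1 → orderOf (x : G) = 5 := fun S x hx => by
      rw [Subgroup.orderOf_coe]
      refine orderOf_eq_prime_iff.2 ⟨?_, hx⟩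
      have h5 := pow_card_eq_one' (x := x)
      rwa [hSc S] at h5
    have ho3 : ∀ (S : Sylow 3 H) (x : (S : Subgroup H)), x ≠ 1 → orderOf ((x : H) : G) = 3 :=
      fun S x hx => by
      rw [Subgroup.orderOf_coe, Subgroup.orderOf_coe]
      refine orderOf_eq_prime_iff.2 ⟨?_, hx⟩
      have h3 := pow_card_eq_one' (x := x)
      rwa [hS3 S] at h3
    have hinj : Function.Injective h := by
      rintro (⟨S, x, hx⟩ | ⟨S, x, hx⟩) (⟨T', y, hy⟩ | ⟨T', y, hy⟩) e <;> simp only [h] at e
      · have exy : (x : G) = y := congrArg (fun z : H => (z : G)) e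
        have hST : S = T' := by
          refine Sylow.ext ?_
          rw [← Subgroup.eq_of_le_of_card_ge (Subgroup.zpowers_le.2 x.2)
              (by rw [hSc, Nat.card_zpowers, ho5 S x hx]),
            ← Subgroup.eq_of_le_of_card_ge (Subgroup.zpowers_le.2 y.2)
              (by rw [hSc, Nat.card_zpowers, ho5 T' y hy]), exy]
        subst hST
        obtain rfl : x = y := Subtype.ext exy
        rfl
      · have exy : (x : G) = ((y : H) : G) := congrArg (fun z : H => (z : G)) e
        have h5 := ho5 S x hx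
        rw [exy, ho3 T' y hy] at h5
        norm_num at h5
      · have exy : ((x : H) : G) = (y : G) := congrArg (fun z : H => (z : G)) e
        have h5 := ho5 T' y hy
        rw [← exy, ho3 S x hx] at h5
        norm_num at h5
      · have hST : S = T' := by
          refine Sylow.ext ?_
          have hox : orderOf (x : H) = 3 := by rw [← Subgroup.orderOf_coe]; exact ho3 S x hx
          have hoy : orderOf (y : H) = 3 := by rw [← Subgroup.orderOf_coe]; exact ho3 T' y hy
          rw [← Subgroup.eq_of_le_of_card_ge (Subgroup.zpowers_le.2 x.2)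
              (by rw [hS3, Nat.card_zpowers, hox]),
            ← Subgroup.eq_of_le_of_card_ge (Subgroup.zpowers_le.2 y.2)
              (by rw [hS3, Nat.card_zpowers, hoy]), e]
        subst hST
        obtain rfl : x = y := Subtype.ext e
        rfl
    have hle' := Nat.card_le_card_of_injective h hinj
    have hne : ∀ {X : Type u} [Group X] [Finite X], Nat.card {x : X // x ≠ 1} = Nat.card X - 1 := by
      intro X _ _
      haveI := Fintype.ofFinite X
      rw [Nat.card_eq_fintype_card, Fintype.card_subtype_compl, Fintype.card_subtype_eq,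
        Nat.card_eq_fintype_card]
    haveI : Fintype (Sylow 5 G) := Fintype.ofFinite _
    haveI : Fintype (Sylow 3 H) := Fintype.ofFinite _
    rw [Nat.card_sum, Nat.card_sigma, Nat.card_sigma,
      Finset.sum_congr rfl (g := fun _ => 4)
        (f := fun S : Sylow 5 G => Nat.card {x : (S : Subgroup G) // x ≠ 1}) (fun S _ => by rw [hne, hSc]),
      Finset.sum_congr rfl (g := fun _ => 2)
        (f := fun S : Sylow 3 H => Nat.card {x : (S : Subgroup H) // x ≠ 1}) (fun S _ => by rw [hne, hS3]),
      Finset.sum_const, Finset.sum_const, Finset.card_univ, Finset.card_univ,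
      ← Nat.card_eq_fintype_card, ← Nat.card_eq_fintype_card, hn, h10', hH30] at hle'
    norm_num at hle'
  haveI : Subsingleton (Sylow 3 H) := (Nat.card_eq_one_iff_unique.1 hT1).1
  haveI : (T : Subgroup H).Normal := Sylow.normal_of_subsingleton T
  haveI := Sylow.characteristic_of_normal T inferInstance
  set K := (T : Subgroup H).map H.subtype with hK
  haveI hKn : K.Normal := ConjAct.normal_of_characteristic_of_normal
  have hKc : Nat.card K = 3 := by
    rw [hK, ← Nat.card_congr ((T : Subgroup H).equivMapOfInjective _ H.subtype_injective).toEquiv, hTc]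
  haveI : IsPretransitive K Ω := IsQuasiPreprimitive.isPretransitive_of_normal fun hfix => by
    have hb : K = ⊥ := (Subgroup.eq_bot_iff_forall K).2 fun h hh =>
      FaithfulSMul.eq_of_smul_eq_smul (α := Ω) fun x => by
        have h1 : x ∈ fixedPoints K Ω := hfix ▸ Set.mem_univ x
        rw [one_smul]
        exact h1 ⟨h, hh⟩
    rw [hb, Subgroup.card_bot] at hKc
    norm_num at hKc
  have := Nat.card_le_card_of_surjective _ (surjective_smul K a)
  rw [hKc, Nat.card_eq_fintype_card, hΩ] at this
  omega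

end Cfsg.Agent.Block.PMinusOne.Ten
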