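import Mathlib
import Cfsg.Agent.S0720
import Cfsg.Agent.S0669
import Cfsg.Agent.Lib.Block.PMinusOne.Main
import Cfsg.Agent.Lib.Block.PMinusOne.DegreeTen

/-!
Primitive simply transitive groups of degree `2 p` with Sylow normalizer of order `2 p`.
-/

set_option autoImplicit false

namespace Cfsg.Agent.Block.PMinusOne

open Cfsg Cfsg.Agent.Block Cfsg.Agent.Block.PermChar Cfsg.Agent.Char MulAction

universe u

theorem degree_two_p {α : Type u} [Fintype α] [DecidableEq α] {p : ℕ} [Fact p.Prime] (hp3 : 3 < p)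
    (hα : Fintype.card α = 2 * p) (G : Subgroup (Equiv.Perm α)) (hprim : IsPreprimitive G α)
    (hnot2 : ¬ IsMultiplyPretransitive G α 2) (P : Sylow p G)
    (hN : Nat.card (Subgroup.normalizer ((P : Subgroup G) : Set G)) = 2 * p) :
    p = 5 ∧ Nonempty (G ≃* alternatingGroup (Fin 5)) := by
  classical
  have hp : p.Prime := Fact.out
  haveI := hprim
  haveI := hprim.toIsPretransitive
  obtain ⟨a₀⟩ : Nonempty α := Fintype.card_pos_iff.1 (by omega)
  haveI : Nonempty α := ⟨a₀⟩
  haveI : Fintype G := Fintype.ofFinite _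
  have hS := fun x => (Cfsg.Agent.S0720.result hp hα G hprim x).resolve_left hnot2
  obtain ⟨hrank, a, ha0, hpa, -⟩ := hS a₀
  -- the Sylow subgroup has order `p`
  have hdvd : p ∣ Nat.card G := by
    have h := (stabilizer G a₀).card_mul_index
    rw [index_stabilizer_of_transitive, Nat.card_eq_fintype_card (α := α), hα] at h
    exact ⟨Nat.card (stabilizer G a₀) * 2, by rw [← h]; ring⟩
  have hPp : Nat.card (P : Subgroup G) = p := by
    obtain ⟨i, hi⟩ := IsPGroup.iff_card.1 P.isPGroup'
    have h2 : p ^ i ∣ 2 * p := hi ▸ hN ▸ Subgroup.card_dvd_of_le Subgroup.le_normalizer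
    have h1 : p ∣ p ^ i := hi ▸ P.dvd_card_of_dvd_card hdvd
    rcases i with _ | _ | i
    · rw [pow_zero] at h1; exact absurd h1 hp.not_dvd_one
    · rw [hi, pow_one]
    · exfalso
      have h3 : p * p ∣ p * 2 := by
        rw [mul_comm p 2, ← pow_two]
        exact (pow_dvd_pow p (by omega)).trans h2
      have := Nat.le_of_dvd two_pos (Nat.dvd_of_mul_dvd_mul_left hp.pos h3)
      omega
  have hsq : ¬ p ^ 2 ∣ Nat.card G := fun h => by
    have h1 := P.pow_dvd_card_of_pow_dvd_card h
    rw [hPp] at h1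
    have := Nat.le_of_dvd hp.pos h1
    nlinarith
  by_cases h5 : p = 5
  · subst h5
    refine ⟨rfl, Ten.iso_alt_five (G := G) (Ω := α) (by rw [hα]) (fun x => (hS x).1)
      (fun x y hy => ?_) P (by rw [hN])⟩
    obtain ⟨-, b, hb0, hb, hsub⟩ := hS x
    have hb1 : b = 1 := by nlinarith
    subst hb1
    exact hsub y hy
  exfalso
  have hp7 : 7 ≤ p := by
    have h6 : p ≠ 6 := fun e => by
      have h2 := (Fact.out : p.Prime)
      rw [e] at h2
      norm_num at h2
    have h4 : p ≠ 4 := fun e => by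
      have h2 := (Fact.out : p.Prime)
      rw [e] at h2
      norm_num at h2
    omega
  -- the self-centralizing element
  haveI hcyc : IsCyclic (P : Subgroup G) := isCyclic_of_prime_card hPp
  set C := Subgroup.centralizer ((P : Subgroup G) : Set G) with hC
  have hCN : C ≤ Subgroup.normalizer ((P : Subgroup G) : Set G) := Subgroup.centralizer_le_normalizer _
  have hPC : (P : Subgroup G) ≤ C := by
    intro x hx y hy
    let _ := IsCyclic.commGroup (α := (P : Subgroup G))
    exact congrArg Subtype.val (mul_comm (⟨y, hy⟩ : (P : Subgroup G)) ⟨x, hx⟩)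
  have hCne : C ≠ Subgroup.normalizer ((P : Subgroup G) : Set G) := by
    intro e
    have hB : Subgroup.normalizer ((P : Subgroup G) : Set G) ≤ Subgroup.centralizer (P : Set G) :=
      e ▸ le_refl C
    set K := (MonoidHom.transferSylow P hB).ker with hK
    have hKc : Subgroup.IsComplement' K (P : Subgroup G) :=
      MonoidHom.ker_transferSylow_isComplement' P hB
    have hKp : ¬ p ∣ Nat.card K := fun hd => hsq (by
      rw [← hKc.card_mul, hPp, pow_two]
      exact Nat.mul_dvd_mul hd dvd_rfl)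
    by_cases hKb : K = ⊥
    · have h := hKc.card_mul
      rw [hKb, Subgroup.card_bot, one_mul, hPp] at h
      have h2 := (stabilizer G a₀).card_mul_index
      rw [index_stabilizer_of_transitive, Nat.card_eq_fintype_card (α := α), hα, ← h] at h2
      have := Nat.le_of_dvd hp.pos ⟨Nat.card (stabilizer G a₀), (h2.symm.trans (mul_comm _ _))⟩
      omega
    · haveI : IsPretransitive K α := IsQuasiPreprimitive.isPretransitive_of_normal fun hfix => hKb
        ((Subgroup.eq_bot_iff_forall K).2 fun k hk => Subtype.ext (Equiv.ext fun x => by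
          have h1 : x ∈ fixedPoints K α := hfix ▸ Set.mem_univ x
          exact h1 ⟨k, hk⟩))
      have h1 := index_stabilizer_of_transitive K a₀
      rw [Nat.card_eq_fintype_card (α := α), hα] at h1
      exact hKp ((dvd_mul_left p 2).trans (h1 ▸ Subgroup.index_dvd_card _))
  have hCc : Nat.card C = p := by
    have h1 : p ∣ Nat.card C := hPp ▸ Subgroup.card_dvd_of_le hPC
    have h2 : Nat.card C ∣ 2 * p := hN ▸ Subgroup.card_dvd_of_le hCN
    obtain ⟨k, hk⟩ := h1
    rw [hk, mul_comm 2 p] at h2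
    have hk2 := Nat.dvd_of_mul_dvd_mul_left hp.pos h2
    rcases (Nat.dvd_prime Nat.prime_two).1 hk2 with rfl | rfl
    · rw [hk, mul_one]
    · exact absurd (Subgroup.eq_of_le_of_card_ge hCN (by rw [hN, hk, mul_comm])) hCne
  obtain ⟨x, hxP, hxo⟩ : ∃ x ∈ (P : Subgroup G), orderOf x = p := by
    obtain ⟨⟨x, hxP⟩, hx⟩ := exists_prime_orderOf_dvd_card' (G := (P : Subgroup G)) p (by rw [hPp])
    exact ⟨x, hxP, by rw [← hx]; exact (Subgroup.orderOf_mk _ _).symm⟩
  have hxz : Subgroup.zpowers x = (P : Subgroup G) :=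
    Subgroup.eq_of_le_of_card_ge (Subgroup.zpowers_le.2 hxP) (by rw [hPp, Nat.card_zpowers, hxo])
  have hx : SCP.Hyp p x := by
    refine ⟨hxo, ?_⟩
    rw [hxz, show (P : Subgroup G) = C from Subgroup.eq_of_le_of_card_ge hPC (by rw [hCc, hPp]), hC,
      ← hxz, Subgroup.zpowers_eq_closure, Subgroup.centralizer_closure]
  have he : SCP.e x = 2 := by
    refine Nat.eq_of_mul_eq_mul_left hp.pos ?_
    rw [← SCP.card_N hx, mul_comm p 2, ← hN]
    show Nat.card (Subgroup.normalizer ((Subgroup.zpowers x : Subgroup G) : Set G)) = _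
    rw [hxz]
  -- the character of degree `p - 1`
  have hsum := sum_mult_sq (G := G) (Ω := α)
  rw [Cfsg.Agent.S0669.result a₀, hrank] at hsum
  obtain ⟨u, ψ, -, hψι, hmψ, -, hcase⟩ :=
    TwoP.constituents (G := G) (Ω := α) hprim (by omega) hα hsq
  have hmι : mult G α (one₀ G : G → ℂ) = 1 := PermChar.mult_one
  rcases hcase with hall | ⟨-, χ₁, hι₁, hψ₁, hm₁, hcase⟩
  · rw [← Finset.sum_subset (s₁ := {one₀ G, ψ}) (Finset.subset_univ _) (fun χ _ hχ => by
      simp only [Finset.mem_insert, Finset.mem_singleton, not_or] at hχ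
      rw [show mult G α (χ : G → ℂ) = 0 from by
        by_contra h
        rcases hall χ h with e | e
        exacts [hχ.1 e, hχ.2 e], zero_mul]), Finset.sum_pair (Ne.symm hψι), hmι, hmψ, map_one,
      one_mul] at hsum
    norm_num at hsum
  rcases hcase with ⟨hd₁, -⟩ | ⟨-, -, χ₂, hι₂, hψ₂, h12, hm₂, -, hall⟩
  · obtain ⟨m, F, _, _, -, hm, -⟩ := main hp7 hx he χ₁ hd₁
      (TwoP.faithful_of_mult hprim hι₁ (by rw [hm₁]; exact one_ne_zero))
    have h2 : 2 ^ m = 2 * (a * (a + 1)) := by
      have : 2 * a ^ 2 + 2 * a + 1 = 2 ^ m + 1 := hpa.symm.trans hm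
      linarith [show 2 * (a * (a + 1)) = 2 * a ^ 2 + 2 * a by ring]
    obtain ⟨i, -, hi⟩ := (Nat.dvd_prime_pow Nat.prime_two).1
      (show a ∣ 2 ^ m from ⟨2 * (a + 1), by rw [h2]; ring⟩)
    obtain ⟨j, -, hj⟩ := (Nat.dvd_prime_pow Nat.prime_two).1
      (show a + 1 ∣ 2 ^ m from ⟨2 * a, by rw [h2]; ring⟩)
    rcases i with _ | i
    · rw [pow_zero] at hi
      subst hi
      norm_num at hpa
      exact h5 hpa
    · rcases j with _ | j
      · omega
      · rw [pow_succ] at hi hj
        omega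
  · rw [← Finset.sum_subset (s₁ := {one₀ G, ψ, χ₁, χ₂}) (Finset.subset_univ _) (fun χ _ hχ => by
      simp only [Finset.mem_insert, Finset.mem_singleton, not_or] at hχ
      rw [show mult G α (χ : G → ℂ) = 0 from by
        by_contra h
        rcases hall χ h with e | e | e | e
        exacts [hχ.1 e, hχ.2.1 e, hχ.2.2.1 e, hχ.2.2.2 e], zero_mul]),
      Finset.sum_insert (by simp [Ne.symm hψι, Ne.symm hι₁, Ne.symm hι₂]),
      Finset.sum_insert (by simp [Ne.symm hψ₁, Ne.symm hψ₂]), Finset.sum_pair (Ne.symm h12),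
      hmι, hmψ, hm₁, hm₂, map_one, one_mul] at hsum
    norm_num at hsum

end Cfsg.Agent.Block.PMinusOne
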